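import Mathlib
import Cfsg.Agent.Lib.Perm.PronormalOvergroup

/-!
Pronormal subgroups of transitive groups fixing at least half of the points: orbit bounds and
the first step (two-transitivity).
-/

set_option autoImplicit false

namespace Cfsg.Agent.ProFix

open Finset
open scoped Classical
open Cfsg.Agent.Perm.Pronormal (cj mem_cj cj_cj cj_one)

noncomputable section

variable {G : Type} [Group G] {α : Type} [Fintype α] [MulAction G α]

/-- Fixed points of the conjugate of `K` by `g`. -/
def Fix (K : Subgroup G) (g : G) : Finset α :=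
  univ.filter fun x => ∀ k ∈ K, k • (g⁻¹ • x) = g⁻¹ • x

/-- Moved points of the conjugate of `K` by `g`. -/
def Mov (K : Subgroup G) (g : G) : Finset α := univ \ Fix K g

/-- Image of a finite set. -/
def sm (g : G) (Z : Finset α) : Finset α := Z.image (g • ·)

/-- Closure: intersection of the fixed sets containing the set. -/
def cl (K : Subgroup G) (Z : Finset α) : Finset α :=
  univ.filter fun x => ∀ g : G, Z ⊆ Fix K g → x ∈ Fix K g

/-- Contained in some fixed set. -/
def Av (K : Subgroup G) (Z : Finset α) : Prop := ∃ g : G, Z ⊆ Fix K g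

/-- Subgroup generated by a family of conjugates. -/
def gen (K : Subgroup G) (A : Set G) : Subgroup G := ⨆ g ∈ A, cj g K

/-- Subgroup generated by the conjugates fixing `Z`. -/
def LZ (K : Subgroup G) (Z : Finset α) : Subgroup G := gen K {g | Z ⊆ Fix K g}

/-- Orbit as a finite set. -/
def orb (L : Subgroup G) (a : α) : Finset α := univ.filter fun b => ∃ g ∈ L, g • a = b

theorem mem_Fix {K : Subgroup G} {g : G} {x : α} :
    x ∈ Fix K g ↔ ∀ k ∈ K, k • (g⁻¹ • x) = g⁻¹ • x := by simp [Fix]

theorem mem_Mov {K : Subgroup G} {g : G} {x : α} : x ∈ Mov K g ↔ x ∉ Fix K g := by simp [Mov]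

theorem mem_Fix_iff {K : Subgroup G} {g : G} {x : α} : x ∈ Fix K g ↔ g⁻¹ • x ∈ Fix K 1 := by
  simp [mem_Fix]

theorem smul_mem_Fix {K : Subgroup G} {g h : G} {x : α} :
    h • x ∈ Fix K (h * g) ↔ x ∈ Fix K g := by
  rw [mem_Fix, mem_Fix, show (h * g)⁻¹ • (h • x) = g⁻¹ • x by rw [smul_smul]; congr 1; group]

theorem Fix_fixed {K : Subgroup G} {g : G} {x : α} (hx : x ∈ Fix K g) {y : G} (hy : y ∈ cj g K) :
    y • x = x := by
  have h := mem_Fix.1 hx _ (mem_cj.1 hy)
  rw [smul_smul, mul_assoc, mul_assoc, mul_inv_cancel, mul_one] at h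
  rw [← smul_smul] at h
  exact MulAction.injective g⁻¹ h

theorem mem_Fix_of_fixed {K : Subgroup G} {g : G} {x : α} (h : ∀ y ∈ cj g K, y • x = x) :
    x ∈ Fix K g := by
  rw [mem_Fix]
  intro k hk
  have h2 := h (g * k * g⁻¹) (mem_cj.2 (by simpa [mul_assoc] using hk))
  rw [mul_smul, mul_smul] at h2
  calc k • g⁻¹ • x = g⁻¹ • (g • k • g⁻¹ • x) := by rw [inv_smul_smul]
    _ = g⁻¹ • x := by rw [h2]

theorem mem_sm {g : G} {Z : Finset α} {x : α} : x ∈ sm g Z ↔ g⁻¹ • x ∈ Z := by
  constructor
  · intro h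
    obtain ⟨z, hz, rfl⟩ := mem_image.1 h
    simpa using hz
  · intro h
    exact mem_image.2 ⟨_, h, by simp⟩

theorem smul_mem_sm {g : G} {Z : Finset α} {x : α} : g • x ∈ sm g Z ↔ x ∈ Z := by simp [mem_sm]

theorem card_sm (g : G) (Z : Finset α) : (sm g Z).card = Z.card :=
  card_image_of_injective _ (MulAction.injective g)

theorem sm_one (Z : Finset α) : sm (1 : G) Z = Z := by ext; simp [mem_sm]

theorem sm_mul (g h : G) (Z : Finset α) : sm g (sm h Z) = sm (g * h) Z := by
  ext x; simp [mem_sm, mul_smul]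

theorem sm_inv_sm (g : G) (Z : Finset α) : sm g⁻¹ (sm g Z) = Z := by
  rw [sm_mul, inv_mul_cancel, sm_one]

theorem sm_sm_inv (g : G) (Z : Finset α) : sm g (sm g⁻¹ Z) = Z := by
  rw [sm_mul, mul_inv_cancel, sm_one]

theorem sm_Fix (K : Subgroup G) (g h : G) : sm h (Fix K g : Finset α) = Fix K (h * g) := by
  ext x
  rw [mem_sm]
  conv_rhs => rw [show x = h • (h⁻¹ • x) by simp, smul_mem_Fix]

theorem sm_subset {g : G} {A B : Finset α} (h : A ⊆ B) : sm g A ⊆ sm g B := image_subset_image h

theorem card_Fix (K : Subgroup G) (g : G) : (Fix K g : Finset α).card = (Fix K 1 : Finset α).card := by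
  have h := sm_Fix (α := α) K 1 g
  rw [mul_one] at h
  rw [← h, card_sm]

theorem card_Mov (K : Subgroup G) (g : G) :
    (Mov K g : Finset α).card + (Fix K g : Finset α).card = Fintype.card α := by
  rw [Mov, card_sdiff_add_card_eq_card (subset_univ _), card_univ]

theorem subset_cl (K : Subgroup G) (Z : Finset α) : Z ⊆ cl K Z := fun x hx => by
  simpa [cl] using fun g hg => hg hx

theorem mem_cl {K : Subgroup G} {Z : Finset α} {x : α} :
    x ∈ cl K Z ↔ ∀ g : G, Z ⊆ Fix K g → x ∈ Fix K g := by simp [cl]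

theorem cl_subset_Fix {K : Subgroup G} {Z : Finset α} {g : G} (h : Z ⊆ Fix K g) :
    cl K Z ⊆ Fix K g := fun _ hx => mem_cl.1 hx g h

theorem cl_subset_cl {K : Subgroup G} {A B : Finset α} (h : A ⊆ cl K B) : cl K A ⊆ cl K B :=
  fun _ hx => mem_cl.2 fun g hg => mem_cl.1 hx g (h.trans (cl_subset_Fix hg))

theorem cl_sm (K : Subgroup G) (h : G) (Z : Finset α) : cl K (sm h Z) = sm h (cl K Z) := by
  ext x
  rw [mem_sm, mem_cl, mem_cl]
  constructor
  · intro hx g hg
    have h2 := hx (h * g) (by rw [← sm_Fix]; exact sm_subset hg)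
    rw [← sm_Fix, mem_sm] at h2
    exact h2
  · intro hx g hg
    have h1 : Z ⊆ Fix K (h⁻¹ * g) := by
      rw [← sm_Fix, ← sm_inv_sm h Z]; exact sm_subset hg
    have h2 := hx _ h1
    rw [← smul_mem_Fix (h := h)] at h2
    simpa using h2

theorem Av_sm {K : Subgroup G} {h : G} {Z : Finset α} (hZ : Av K Z) : Av K (sm h Z) := by
  obtain ⟨g, hg⟩ := hZ
  exact ⟨h * g, by rw [← sm_Fix]; exact sm_subset hg⟩

theorem Av_mono {K : Subgroup G} {A B : Finset α} (h : A ⊆ B) (hB : Av K B) : Av K A := by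
  obtain ⟨g, hg⟩ := hB
  exact ⟨g, h.trans hg⟩

theorem cj_le_gen {K : Subgroup G} {A : Set G} {g : G} (hg : g ∈ A) : cj g K ≤ gen K A :=
  le_iSup₂ (f := fun g (_ : g ∈ A) => cj g K) g hg

theorem le_gen {K : Subgroup G} {A : Set G} (h1 : (1 : G) ∈ A) : K ≤ gen K A := by
  have h := cj_le_gen (K := K) h1
  rwa [cj_one] at h

theorem gen_fix {K : Subgroup G} {A : Set G} {x : α} (hx : ∀ g ∈ A, x ∈ Fix K g) {y : G}
    (hy : y ∈ gen K A) : y • x = x := by
  have h : gen K A ≤ MulAction.stabilizer G x :=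
    iSup₂_le fun g hg => fun z hz => Fix_fixed (hx g hg) hz
  exact h hy

theorem mem_orb {L : Subgroup G} {a b : α} : b ∈ orb L a ↔ ∃ g ∈ L, g • a = b := by simp [orb]

theorem self_mem_orb (L : Subgroup G) (a : α) : a ∈ orb L a := mem_orb.2 ⟨1, L.one_mem, one_smul _ _⟩

theorem orb_eq {L : Subgroup G} {a b : α} (h : b ∈ orb L a) : orb L b = orb L a := by
  obtain ⟨g, hg, rfl⟩ := mem_orb.1 h
  ext c
  simp only [mem_orb]
  constructor
  · rintro ⟨k, hk, rfl⟩
    exact ⟨k * g, L.mul_mem hk hg, mul_smul _ _ _⟩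
  · rintro ⟨k, hk, rfl⟩
    exact ⟨k * g⁻¹, L.mul_mem hk (L.inv_mem hg), by simp [mul_smul]⟩

theorem orb_fixed {K : Subgroup G} {A : Set G} {a : α} (ha : ∀ g ∈ A, a ∈ Fix K g) :
    orb (gen K A) a = {a} := by
  ext b
  simp only [mem_orb, mem_singleton]
  constructor
  · rintro ⟨g, hg, rfl⟩; exact gen_fix ha hg
  · rintro rfl; exact ⟨1, Subgroup.one_mem _, one_smul _ _⟩

/-- The statement proved by induction, for one action. -/
def Small (H : Type) [Group H] (β : Type) [MulAction H β] (K : Subgroup H) : Prop :=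
  (∃ x : β, ∃ k ∈ K, k • x ≠ x) →
    2 * Nat.card {x : β // ∀ k ∈ K, k • x = x} + 1 ≤ Nat.card β

/-- A counterexample of least degree. -/
structure Hyp (K : Subgroup G) (α : Type) [Fintype α] [MulAction G α] : Prop where
  fin : Finite G
  trans : MulAction.IsPretransitive G α
  pro : Cfsg.IsPronormal K
  moved : ∃ x : α, ∃ k ∈ K, k • x ≠ x
  big : Fintype.card α ≤ 2 * (Fix K 1 : Finset α).card
  ih : ∀ (β : Type) [Fintype β] (H : Type) [Group H] [Finite H] [MulAction H β] (K' : Subgroup H),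
    Fintype.card β < Fintype.card α → MulAction.IsPretransitive H β → Cfsg.IsPronormal K' →
      Small H β K'

namespace Hyp

variable {K : Subgroup G}

theorem exists_smul (h : Hyp K α) (a b : α) : ∃ g : G, g • a = b := h.trans.exists_smul_eq a b

theorem mov_pos (h : Hyp K α) : 0 < (Mov K 1 : Finset α).card := by
  obtain ⟨x, k, hk, hne⟩ := h.moved
  refine card_pos.2 ⟨x, mem_Mov.2 fun hx => hne ?_⟩
  simpa using mem_Fix.1 hx k hk

theorem fix_pos (h : Hyp K α) : 0 < (Fix K 1 : Finset α).card := by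
  have := card_Mov (α := α) K 1
  have := h.mov_pos
  have := h.big
  omega

theorem exists_not_fix (h : Hyp K α) (a : α) : ∃ g : G, a ∉ Fix K g := by
  obtain ⟨x, hx⟩ := card_pos.1 h.mov_pos
  obtain ⟨g, rfl⟩ := h.exists_smul x a
  refine ⟨g, fun hc => mem_Mov.1 hx ?_⟩
  have : g • x ∈ Fix K (g * 1) := by rwa [mul_one]
  exact smul_mem_Fix.1 this

theorem exists_fix (h : Hyp K α) (a : α) : ∃ g : G, a ∈ Fix K g := by
  obtain ⟨x, hx⟩ := card_pos.1 h.fix_pos
  obtain ⟨g, rfl⟩ := h.exists_smul x a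
  exact ⟨g * 1, smul_mem_Fix.2 hx⟩

/-- The orbit bound. -/
theorem orb_bound (h : Hyp K α) {A : Set G} (h1 : (1 : G) ∈ A) {a : α}
    (hlt : (orb (gen K A) a).card < Fintype.card α) (hmv : ∃ g ∈ A, a ∉ Fix K g) :
    (orb (gen K A) a).card + 1 ≤ 2 * (orb (gen K A) a ∩ Mov K 1).card := by
  set L := gen K A with hL
  haveI := h.fin
  have hKL : K ≤ L := le_gen h1
  have hinv : ∀ (l : L) (x : α), x ∈ orb L a → (l : G) • x ∈ orb L a := by
    intro l x hx
    rw [← orb_eq hx]; exact mem_orb.2 ⟨l, l.2, rfl⟩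
  let β := {x : α // x ∈ orb L a}
  letI : MulAction L β :=
    { smul := fun l x => ⟨(l : G) • x.1, hinv l x.1 x.2⟩
      one_smul := fun x => Subtype.ext (one_smul G x.1)
      mul_smul := fun l l' x => Subtype.ext (mul_smul (l : G) (l' : G) x.1) }
  have hcard : Fintype.card β = (orb L a).card := Fintype.card_coe _
  have htr : MulAction.IsPretransitive L β := ⟨fun x y => by
    have hy : y.1 ∈ orb L x.1 := by rw [orb_eq x.2]; exact y.2
    obtain ⟨g, hg, he⟩ := mem_orb.1 hy
    exact ⟨⟨g, hg⟩, Subtype.ext he⟩⟩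
  have hs := h.ih β L (K.subgroupOf L) (by omega) htr (Perm.Pronormal.subgroupOf hKL h.pro)
  have hmoved : ∃ x : β, ∃ k ∈ K.subgroupOf L, k • x ≠ x := by
    by_contra hc
    push_neg at hc
    obtain ⟨g, hg, hgn⟩ := hmv
    apply hgn
    refine mem_Fix_of_fixed fun y hy => ?_
    obtain ⟨w, hw, he⟩ := h.pro g
    have hwL : w ∈ L := sup_le hKL (cj_le_gen hg) hw
    have hy' : w⁻¹ * y * w ∈ K := mem_cj.1 (show y ∈ cj w K by rw [show cj w K = cj g K from he.symm]; exact hy)
    have hwa : w⁻¹ • a ∈ orb L a := mem_orb.2 ⟨_, L.inv_mem hwL, rfl⟩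
    have h2 : (w⁻¹ * y * w) • (w⁻¹ • a) = w⁻¹ • a :=
      congrArg Subtype.val (hc ⟨w⁻¹ • a, hwa⟩ ⟨_, hKL hy'⟩ hy')
    rw [smul_smul, mul_assoc, mul_inv_cancel, mul_one, mul_smul] at h2
    exact MulAction.injective w⁻¹ h2
  have h2 := hs hmoved
  rw [Nat.card_eq_fintype_card (α := β), hcard] at h2
  have h3 : Nat.card {x : β // ∀ k ∈ K.subgroupOf L, k • x = x} =
      (orb L a ∩ Fix K 1).card := by
    rw [← Fintype.card_coe, ← Nat.card_eq_fintype_card]
    refine Nat.card_congr
      { toFun := fun x => ⟨x.1.1, mem_inter.2 ⟨x.1.2, mem_Fix.2 fun k hk => ?_⟩⟩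
        invFun := fun y => ⟨⟨y.1, (mem_inter.1 y.2).1⟩, fun k hk => Subtype.ext ?_⟩
        left_inv := fun x => rfl
        right_inv := fun y => rfl }
    · have h5 : k • x.1.1 = x.1.1 := congrArg Subtype.val (x.2 ⟨k, hKL hk⟩ hk)
      simpa using h5
    · have := mem_Fix.1 (mem_inter.1 y.2).2 (k : G) hk
      rw [inv_one, one_smul] at this
      exact this
  have h4 : (orb L a ∩ Mov K 1).card + (orb L a ∩ Fix K 1).card = (orb L a).card := by
    have h5 : orb L a ∩ Mov K 1 = orb L a \ Fix K 1 := by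
      ext x; simp [mem_Mov]
    rw [h5, card_sdiff_add_card_inter]
  omega

/-- Summing over the orbits. -/
theorem sum_bound (_h : Hyp K α) {L : Subgroup G} {U : Finset α}
    (hU : ∀ a ∈ U, orb L a ⊆ U)
    (hb : ∀ a ∈ U, (orb L a).card + 1 ≤ 2 * (orb L a ∩ Mov K 1).card) :
    U.card + (U.image (orb L)).card ≤ 2 * (U ∩ Mov K 1).card := by
  have hm : ∀ x ∈ U, orb L x ∈ U.image (orb L) := fun x hx => mem_image_of_mem _ hx
  have hfib : ∀ a ∈ U, U.filter (fun x => orb L x = orb L a) = orb L a := by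
    intro a ha
    ext x
    simp only [mem_filter]
    exact ⟨fun hx => hx.2 ▸ self_mem_orb L x, fun hx => ⟨hU a ha hx, orb_eq hx⟩⟩
  have h2 : (U ∩ Mov K 1).card = ∑ b ∈ U.image (orb L), (b ∩ Mov K 1).card := by
    rw [card_eq_sum_card_fiberwise (f := orb L) (t := U.image (orb L))
      (fun x hx => hm x (mem_inter.1 hx).1)]
    refine sum_congr rfl fun b hb' => ?_
    obtain ⟨a, ha, rfl⟩ := mem_image.1 hb'
    congr 1
    conv_rhs => rw [← hfib a ha]
    ext x; simp only [mem_filter, mem_inter]; tauto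
  have h1 : U.card = ∑ b ∈ U.image (orb L), b.card := by
    rw [card_eq_sum_card_fiberwise (f := orb L) (t := U.image (orb L)) hm]
    refine sum_congr rfl fun b hb' => ?_
    obtain ⟨a, ha, rfl⟩ := mem_image.1 hb'
    rw [hfib a ha]
  rw [h1, h2, mul_sum, card_eq_sum_ones, ← sum_add_distrib]
  refine sum_le_sum fun b hb' => ?_
  obtain ⟨a, ha, rfl⟩ := mem_image.1 hb'
  exact hb a ha

/-- Points in the same fixed sets are equal. -/
theorem twins (h : Hyp K α) {a b : α} (hab : ∀ g : G, a ∈ Fix K g ↔ b ∈ Fix K g) : a = b := by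
  haveI := h.fin
  by_contra hne
  let S : Setoid α := ⟨fun x y => ∀ g : G, x ∈ Fix K g ↔ y ∈ Fix K g,
    ⟨fun _ _ => Iff.rfl, fun h g => (h g).symm, fun h h' g => (h g).trans (h' g)⟩⟩
  have hcomp : ∀ (k : G) (x y : α), S.r x y → S.r (k • x) (k • y) := by
    intro k x y hxy g
    have e : k * (k⁻¹ * g) = g := mul_inv_cancel_left k g
    rw [← e, smul_mem_Fix, smul_mem_Fix]
    exact hxy _
  letI : MulAction G (Quotient S) :=
    { smul := fun k q => Quotient.map (k • ·) (fun x y hxy => hcomp k x y hxy) q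
      one_smul := fun q => Quotient.inductionOn q fun x => congrArg (Quotient.mk S) (one_smul G x)
      mul_smul := fun k k' q =>
        Quotient.inductionOn q fun x => congrArg (Quotient.mk S) (mul_smul k k' x) }
  have hsm : ∀ (k : G) (x : α), k • Quotient.mk S x = Quotient.mk S (k • x) := fun _ _ => rfl
  have hM := card_Mov (α := α) K 1
  have hbig := h.big
  by_cases hk : ∃ q : Quotient S, ∃ k ∈ K, k • q ≠ q
  · have hlt : Fintype.card (Quotient S) < Fintype.card α :=
      Fintype.card_lt_of_surjective_not_injective (Quotient.mk S) Quotient.mk_surjective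
        fun hinj => hne (hinj (Quotient.sound hab))
    have htr : MulAction.IsPretransitive G (Quotient S) := ⟨fun p q => by
      induction p using Quotient.inductionOn with
      | _ x =>
        induction q using Quotient.inductionOn with
        | _ y =>
          obtain ⟨g, rfl⟩ := h.exists_smul x y
          exact ⟨g, rfl⟩⟩
    have h2 := h.ih (Quotient S) G K hlt htr h.pro hk
    rw [Nat.card_eq_fintype_card, Nat.card_eq_fintype_card, Fintype.card_subtype] at h2
    set c := (univ.filter fun x : α => Quotient.mk S x = Quotient.mk S a).card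
    have hc : ∀ q : Quotient S, (univ.filter fun x : α => Quotient.mk S x = q).card = c := by
      intro q
      induction q using Quotient.inductionOn with
      | _ y =>
        obtain ⟨g, rfl⟩ := h.exists_smul a y
        refine card_bij' (fun x _ => g⁻¹ • x) (fun x _ => g • x) ?_ ?_ (by simp) (by simp)
        · intro x hx
          simp only [mem_filter, mem_univ, true_and] at hx ⊢
          rw [← hsm, hx, hsm, inv_smul_smul]
        · intro x hx
          simp only [mem_filter, mem_univ, true_and] at hx ⊢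
          rw [← hsm, hx, hsm]
    have hn : Fintype.card α = Fintype.card (Quotient S) * c := by
      rw [← card_univ, card_eq_sum_card_fiberwise (f := Quotient.mk S) (t := univ)
        (fun x _ => mem_univ _), sum_congr rfl (fun q _ => hc q), sum_const, smul_eq_mul, card_univ]
    set φ := (univ.filter fun q : Quotient S => ∀ k ∈ K, k • q = q)
    have hf : (Fix K 1 : Finset α).card ≤ φ.card * c := by
      have hm : ∀ x ∈ (Fix K 1 : Finset α), Quotient.mk S x ∈ φ := by
        intro x hx
        simp only [φ, mem_filter, mem_univ, true_and]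
        intro k hk'
        rw [hsm]; congr 1
        simpa using mem_Fix.1 hx k hk'
      rw [card_eq_sum_card_fiberwise (f := Quotient.mk S) (t := φ) hm]
      calc ∑ q ∈ φ, ((Fix K 1 : Finset α).filter fun x => Quotient.mk S x = q).card
          ≤ ∑ _q ∈ φ, c := sum_le_sum fun q _ => (hc q) ▸ card_le_card
            (filter_subset_filter _ (subset_univ _))
        _ = φ.card * c := by rw [sum_const, smul_eq_mul]
    have hcp : 0 < c := card_pos.2 ⟨a, by simp⟩
    have h3 := Nat.mul_le_mul_right c h2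
    rw [add_mul, one_mul, mul_assoc] at h3
    omega
  · push_neg at hk
    have hconj : ∀ (g : G) (k : G), k ∈ cj g K → ∀ x : α, S.r (k • x) x := by
      intro g k hk' x
      have h1 := hk (Quotient.mk S (g⁻¹ • x)) _ (mem_cj.1 hk')
      rw [hsm] at h1
      have h2 := hcomp g _ _ (Quotient.exact h1)
      simpa [smul_smul, mul_assoc] using h2
    have hL : ∀ y ∈ gen K (Set.univ : Set G), ∀ x : α, S.r (y • x) x := by
      intro y hy
      have hle : gen K (Set.univ : Set G) ≤
          { carrier := {y | ∀ x : α, S.r (y • x) x}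
            one_mem' := fun x => by simpa using S.refl x
            mul_mem' := fun {u v} hu hv x => S.trans (by rw [mul_smul]; exact hu _) (hv x)
            inv_mem' := fun {u} hu x => S.symm (by
              have := hu (u⁻¹ • x); rwa [smul_inv_smul] at this) } :=
        iSup₂_le fun g _ => hconj g
      exact hle hy
    have hbd : ∀ x ∈ (univ : Finset α), (orb (gen K (Set.univ : Set G)) x).card + 1 ≤
        2 * (orb (gen K (Set.univ : Set G)) x ∩ Mov K 1).card := by
      intro x _
      obtain ⟨g, hg⟩ := h.exists_not_fix x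
      refine h.orb_bound (Set.mem_univ _) ?_ ⟨g, Set.mem_univ _, hg⟩
      rw [← card_univ]
      refine card_lt_card (ssubset_univ_iff.2 fun hu => ?_)
      have hone : ∀ y : α, S.r y x := by
        intro y
        have hy : y ∈ orb (gen K (Set.univ : Set G)) x := by rw [hu]; exact mem_univ _
        obtain ⟨l, hl, rfl⟩ := mem_orb.1 hy
        exact hL l hl x
      obtain ⟨p, hp⟩ := card_pos.1 h.fix_pos
      obtain ⟨q, hq⟩ := card_pos.1 h.mov_pos
      exact mem_Mov.1 hq ((hone q 1).2 ((hone p 1).1 hp))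
    have h2 := h.sum_bound (U := univ) (fun _ _ => subset_univ _) hbd
    have h3 : 0 < ((univ : Finset α).image (orb (gen K (Set.univ : Set G)))).card :=
      card_pos.2 ⟨_, mem_image_of_mem _ (mem_univ a)⟩
    rw [univ_inter, card_univ] at h2
    omega

/-- The stabiliser of a point is transitive on the other points, through conjugates fixing it. -/
theorem first_step (h : Hyp K α) :
    2 * (Mov K 1 : Finset α).card = Fintype.card α ∧
    ∀ z : α, cl K {z} = {z} ∧ ∀ a, a ≠ z → ∀ b, b ≠ z → b ∈ orb (LZ K ({z} : Finset α)) a := by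
  haveI := h.fin
  have hM := card_Mov (α := α) K 1
  have hbig := h.big
  have hmp := h.mov_pos
  have hn2 : 2 ≤ Fintype.card α := by have := h.fix_pos; omega
  obtain ⟨z0, hz0⟩ := card_pos.1 h.fix_pos
  let Good : Set G → Prop := fun A => (1 : G) ∈ A ∧ ∀ a : α, orb (gen K A) a ≠ univ
  have hfixgood : ∀ (A : Set G) (x : α), (1 : G) ∈ A → (∀ g ∈ A, x ∈ Fix K g) → Good A := by
    intro A x h1 hx
    refine ⟨h1, fun a hu => ?_⟩
    have hxa : x ∈ orb (gen K A) a := by rw [hu]; exact mem_univ _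
    have hsingle := orb_fixed hx
    rw [orb_eq hxa, hu] at hsingle
    have := congrArg Finset.card hsingle
    rw [card_univ, card_singleton] at this
    omega
  obtain ⟨A, -, hA⟩ := Finite.exists_le_maximal (p := Good) (a := {1})
    (hfixgood {1} z0 rfl (fun g hg => by rw [Set.mem_singleton_iff.1 hg]; exact hz0))
  obtain ⟨⟨h1A, hint⟩, hmax⟩ := hA
  set Z := univ.filter fun x : α => ∀ g ∈ A, x ∈ Fix K g with hZ
  set L := gen K A with hL
  set U := univ \ Z with hU
  have hUm : ∀ x, x ∈ U ↔ x ∉ Z := fun x => by simp [hU]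
  have hclosed : ∀ a ∈ U, orb L a ⊆ U := by
    intro a ha b hb
    rw [hUm] at ha ⊢
    intro hbZ
    apply ha
    have hs : orb L b = {b} := orb_fixed (by simpa [hZ] using hbZ)
    rw [orb_eq hb] at hs
    have : a ∈ ({b} : Finset α) := hs ▸ self_mem_orb L a
    rwa [mem_singleton.1 this]
  have hbd : ∀ a ∈ U, (orb L a).card + 1 ≤ 2 * (orb L a ∩ Mov K 1).card := by
    intro a ha
    rw [hUm] at ha
    simp only [hZ, mem_filter, mem_univ, true_and, not_forall] at ha
    obtain ⟨g, hg, hgn⟩ := ha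
    refine h.orb_bound h1A ?_ ⟨g, hg, hgn⟩
    rw [← card_univ]
    exact card_lt_card (ssubset_univ_iff.2 (hint a))
  have hMU : U ∩ Mov K 1 = Mov K 1 := inter_eq_right.2 fun x hx => by
    rw [hUm]; intro hxZ
    exact mem_Mov.1 hx ((mem_filter.1 hxZ).2 1 h1A)
  have hs := h.sum_bound hclosed hbd
  rw [hMU] at hs
  have hUne : U.Nonempty := (card_pos.1 hmp).mono (hMU ▸ inter_subset_left)
  have hr : 0 < (U.image (orb L)).card := card_pos.2 (hUne.image _)
  have hZU : U.card + Z.card = Fintype.card α := by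
    rw [hU, card_sdiff_add_card_eq_card (subset_univ _), card_univ]
  obtain ⟨z, hz⟩ := card_pos.1 (show 0 < Z.card by omega)
  have hmax' : ∀ g : G, ∀ x ∈ Z, x ∈ Fix K g → g ∈ A := by
    intro g x hx hxg
    have hx' := (mem_filter.1 hx).2
    have hgood : Good (insert g A) := hfixgood _ x (Set.mem_insert_of_mem _ h1A) (by
      intro k hk
      rcases hk with rfl | hk
      · exact hxg
      · exact hx' k hk)
    exact hmax hgood (Set.subset_insert g A) (Set.mem_insert g A)
  have hZz : Z = {z} := by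
    refine eq_singleton_iff_unique_mem.2 ⟨hz, fun x hx => h.twins fun g => ⟨fun hxg => ?_, fun hzg => ?_⟩⟩
    · exact (mem_filter.1 hz).2 g (hmax' g x hx hxg)
    · exact (mem_filter.1 hx).2 g (hmax' g z hz hzg)
  have hZc : Z.card = 1 := by rw [hZz, card_singleton]
  have hn : 2 * (Mov K 1 : Finset α).card = Fintype.card α := by omega
  have hr1 : (U.image (orb L)).card = 1 := by omega
  have hAeq : {g : G | ({z} : Finset α) ⊆ Fix K g} = A := by
    ext g
    simp only [Set.mem_setOf_eq, singleton_subset_iff]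
    exact ⟨hmax' g z hz, fun hg => (mem_filter.1 hz).2 g hg⟩
  have hclz : cl K ({z} : Finset α) = {z} := by
    refine Subset.antisymm (fun x hx => ?_) (subset_cl K _)
    rw [← hZz, hZ, mem_filter]
    exact ⟨mem_univ _, fun g hg => mem_cl.1 hx g (singleton_subset_iff.2 ((mem_filter.1 hz).2 g hg))⟩
  have horb : ∀ a, a ≠ z → ∀ b, b ≠ z → b ∈ orb (LZ K ({z} : Finset α)) a := by
    intro a ha b hb
    have haU : a ∈ U := by rw [hUm, hZz, mem_singleton]; exact ha
    have hbU : b ∈ U := by rw [hUm, hZz, mem_singleton]; exact hb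
    obtain ⟨o, ho⟩ := card_eq_one.1 hr1
    have e1 : orb L a ∈ ({o} : Finset (Finset α)) := ho ▸ mem_image_of_mem _ haU
    have e2 : orb L b ∈ ({o} : Finset (Finset α)) := ho ▸ mem_image_of_mem _ hbU
    rw [LZ, hAeq, ← hL, mem_singleton.1 e1, ← mem_singleton.1 e2]
    exact self_mem_orb L b
  refine ⟨hn, fun y => ?_⟩
  obtain ⟨g, rfl⟩ := h.exists_smul z y
  have hsmz : ({g • z} : Finset α) = sm g {z} := by rw [sm, image_singleton]
  refine ⟨by rw [hsmz, cl_sm, hclz], fun a ha b hb => ?_⟩
  obtain ⟨l, hl, he⟩ := mem_orb.1 (horb (g⁻¹ • a) (fun e => ha (by rw [← e, smul_inv_smul]))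
    (g⁻¹ • b) (fun e => hb (by rw [← e, smul_inv_smul])))
  refine mem_orb.2 ⟨g * l * g⁻¹, ?_, by rw [mul_smul, mul_smul, he, smul_inv_smul]⟩
  have hle : cj g (LZ K ({z} : Finset α)) ≤ LZ K ({g • z} : Finset α) := by
    unfold LZ gen
    rw [cj, Subgroup.map_iSup]
    refine iSup_le fun k => ?_
    rw [Subgroup.map_iSup]
    refine iSup_le fun hk => ?_
    have hk' : g * k ∈ {k : G | ({g • z} : Finset α) ⊆ Fix K k} := by
      simp only [Set.mem_setOf_eq, singleton_subset_iff] at hk ⊢
      exact smul_mem_Fix.2 hk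
    show cj g (cj k K) ≤ _
    rw [cj_cj]
    exact le_iSup₂ (f := fun m (_ : m ∈ {k : G | ({g • z} : Finset α) ⊆ Fix K k}) => cj m K) (g * k) hk'
  exact hle (mem_cj.2 (by simpa [mul_assoc] using hl))

end Hyp

end

end Cfsg.Agent.ProFix
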