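import Cfsg.Agent.Lib.Perm.ProFix.Basic

/-!
The Gram inequality for the orbit structures of the groups `LZ K Z`.
-/

set_option autoImplicit false

namespace Cfsg.Agent.ProFix

open Finset
open scoped Classical
open Cfsg.Agent.Perm.Pronormal (cj mem_cj cj_cj cj_one)

noncomputable section

variable {G : Type} [Group G] {α : Type} [Fintype α] [MulAction G α] {K : Subgroup G}

/-- Complement of the closure. -/
def Out (K : Subgroup G) (Z : Finset α) : Finset α := univ \ cl K Z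

theorem mem_Out {Z : Finset α} {x : α} : x ∈ Out K Z ↔ x ∉ cl K Z := by simp [Out]

theorem orb_subset_Out {Z : Finset α} {a : α} (ha : a ∈ Out K Z) :
    orb (LZ K Z) a ⊆ Out K Z := by
  intro b hb
  rw [mem_Out] at ha ⊢
  intro hbc
  apply ha
  have hs : orb (LZ K Z) b = {b} := orb_fixed fun g hg => mem_cl.1 hbc g hg
  rw [orb_eq hb] at hs
  have : a ∈ ({b} : Finset α) := hs ▸ self_mem_orb _ a
  rwa [mem_singleton.1 this]

theorem mem_LZ_sm {g l : G} {Z : Finset α} (hl : l ∈ LZ K Z) :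
    g * l * g⁻¹ ∈ LZ K (sm g Z) := by
  have hle : LZ K Z ≤ Subgroup.comap (MulAut.conj g).toMonoidHom (LZ K (sm g Z)) := by
    refine iSup₂_le fun k hk => ?_
    intro y hy
    have hk' : g * k ∈ {k : G | sm g Z ⊆ Fix K k} := by
      simp only [Set.mem_setOf_eq] at hk ⊢
      rw [← sm_Fix]; exact sm_subset hk
    refine cj_le_gen hk' ?_
    show g * y * g⁻¹ ∈ cj (g * k) K
    rw [← cj_cj, mem_cj]
    simpa [mul_assoc] using hy
  exact hle hl

theorem orb_sm {g : G} {Z : Finset α} {a : α} :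
    orb (LZ K (sm g Z)) (g • a) = sm g (orb (LZ K Z) a) := by
  ext b
  rw [mem_sm, mem_orb, mem_orb]
  constructor
  · rintro ⟨l, hl, rfl⟩
    have h2 := mem_LZ_sm (g := g⁻¹) hl
    rw [sm_inv_sm] at h2
    exact ⟨_, h2, by simp [mul_smul]⟩
  · rintro ⟨l, hl, he⟩
    exact ⟨_, mem_LZ_sm hl, by simp [mul_smul, he]⟩

theorem Out_sm (g : G) (Z : Finset α) : Out K (sm g Z) = sm g (Out K Z) := by
  ext x; simp [mem_Out, mem_sm, cl_sm]

/-- Orbit weight. -/
def wc (K : Subgroup G) (Z : Finset α) (a : α) : ℚ :=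
  1 / ((orb (LZ K Z) a).card : ℚ) - 1 / ((Out K Z).card : ℚ)

/-- Gram matrix entries. -/
def ww (K : Subgroup G) (Z : Finset α) (a b : α) : ℚ :=
  if a ∈ Out K Z ∧ b ∈ Out K Z then
    (if b ∈ orb (LZ K Z) a then 1 / ((orb (LZ K Z) a).card : ℚ) else 0) - 1 / ((Out K Z).card : ℚ)
  else 0

/-- Trace. -/
def tr (K : Subgroup G) (Z : Finset α) : ℚ := ∑ a ∈ Out K Z, wc K Z a

theorem orb_card_pos (L : Subgroup G) (a : α) : 0 < (orb L a).card :=
  card_pos.2 ⟨a, self_mem_orb L a⟩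

theorem wc_sm (g : G) (Z : Finset α) (a : α) : wc K (sm g Z) (g • a) = wc K Z a := by
  rw [wc, wc, orb_sm, Out_sm, card_sm, card_sm]

theorem ww_sm (g : G) (Z : Finset α) (a b : α) :
    ww K (sm g Z) (g • a) (g • b) = ww K Z a b := by
  simp only [ww, orb_sm, Out_sm, card_sm, smul_mem_sm]

theorem tr_sm (g : G) (Z : Finset α) : tr K (sm g Z) = tr K Z := by
  unfold tr
  rw [Out_sm, sm, sum_image (fun x _ y _ e => MulAction.injective g e)]
  exact sum_congr rfl fun a _ => wc_sm g Z a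

theorem wc_nonneg {Z : Finset α} {a : α} (ha : a ∈ Out K Z) : 0 ≤ wc K Z a := by
  rw [wc, sub_nonneg]
  exact one_div_le_one_div_of_le (by exact_mod_cast orb_card_pos _ a)
    (by exact_mod_cast card_le_card (orb_subset_Out ha))

theorem wc_pos {Z : Finset α} {a : α} (ha : a ∈ Out K Z) (hne : orb (LZ K Z) a ≠ Out K Z) :
    0 < wc K Z a := by
  rw [wc, sub_pos]
  exact one_div_lt_one_div_of_lt (by exact_mod_cast orb_card_pos _ a)
    (by exact_mod_cast card_lt_card ((orb_subset_Out ha).ssubset_of_ne hne))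

theorem ww_self {Z : Finset α} {a : α} (ha : a ∈ Out K Z) : ww K Z a a = wc K Z a := by
  simp [ww, wc, ha, self_mem_orb]

theorem ww_row {Z : Finset α} (a : α) : ∑ b, ww K Z a b = 0 := by
  by_cases ha : a ∈ Out K Z
  · simp only [ww, ha, true_and]
    rw [← sum_filter, filter_mem_eq_inter, univ_inter, sum_sub_distrib, ← sum_filter,
      filter_mem_eq_inter, inter_eq_right.2 (orb_subset_Out ha), sum_const, sum_const,
      nsmul_eq_mul, nsmul_eq_mul]
    have h1 : ((orb (LZ K Z) a).card : ℚ) ≠ 0 := by exact_mod_cast (orb_card_pos _ a).ne'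
    have h2 : ((Out K Z).card : ℚ) ≠ 0 := by exact_mod_cast (card_pos.2 ⟨a, ha⟩).ne'
    rw [mul_one_div, mul_one_div, div_self h1, div_self h2, sub_self]
  · simp [ww, ha]

theorem ww_psd (K : Subgroup G) (Z O : Finset α) : 0 ≤ ∑ a ∈ O, ∑ b ∈ O, ww K Z a b := by
  set U := Out K Z with hU
  set o : α → Finset α := orb (LZ K Z) with ho
  set X := O ∩ U with hX
  let f : α → ℚ := fun a => ((X ∩ o a).card : ℚ) / (o a).card
  have hconst : ∀ a b, b ∈ o a → f b = f a := fun a b hb => by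
    simp only [f, ho, orb_eq hb]
  have hdc : ∀ t : α → ℚ, (∀ a b, b ∈ o a → t b = t a) →
      ∑ a ∈ U, t a * f a = ∑ b ∈ X, t b := by
    intro t ht
    calc ∑ a ∈ U, t a * f a
        = ∑ a ∈ U, ∑ b ∈ X, (if b ∈ o a then t a / (o a).card else 0) := by
          refine sum_congr rfl fun a _ => ?_
          rw [← sum_filter, filter_mem_eq_inter, sum_const, nsmul_eq_mul]
          simp only [f]; ring
      _ = ∑ b ∈ X, ∑ a ∈ U, (if b ∈ o a then t a / (o a).card else 0) := sum_comm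
      _ = ∑ b ∈ X, t b := by
          refine sum_congr rfl fun b hb => ?_
          have hbU : b ∈ U := (mem_inter.1 hb).2
          have hfl : U.filter (fun a => b ∈ o a) = o b := by
            ext a
            simp only [mem_filter, ho]
            exact ⟨fun h => by rw [orb_eq h.2]; exact self_mem_orb _ a,
              fun h => ⟨orb_subset_Out hbU h, by rw [orb_eq h]; exact self_mem_orb _ b⟩⟩
          rw [← sum_filter, hfl]
          rw [sum_congr rfl (fun a ha => show t a / ((o a).card : ℚ) = t b / (o b).card by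
            rw [ht b a ha, show o a = o b from orb_eq ha]), sum_const, nsmul_eq_mul]
          exact mul_div_cancel₀ _ (by exact_mod_cast (orb_card_pos _ b).ne')
  have h1 : ∑ a ∈ U, f a = (X.card : ℚ) := by
    have := hdc (fun _ => 1) (fun _ _ _ => rfl)
    simpa using this
  have h2 : ∑ a ∈ U, f a ^ 2 = ∑ b ∈ X, f b := by
    rw [← hdc f hconst]; exact sum_congr rfl fun a _ => sq (f a)
  have key : ∑ a ∈ O, ∑ b ∈ O, ww K Z a b = ∑ a ∈ X, f a - (X.card : ℚ) ^ 2 / U.card := by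
    calc ∑ a ∈ O, ∑ b ∈ O, ww K Z a b
        = ∑ a ∈ X, ∑ b ∈ X, ((if b ∈ o a then 1 / ((o a).card : ℚ) else 0) - 1 / (U.card : ℚ)) := by
          rw [hX, ← filter_mem_eq_inter, sum_filter]
          refine sum_congr rfl fun a _ => ?_
          by_cases ha : a ∈ U
          · rw [if_pos ha, sum_filter]
            simp [ww, ← hU, ← ho, ha]
          · rw [if_neg ha]; simp [ww, ← hU, ha]
      _ = ∑ a ∈ X, (f a - (X.card : ℚ) / U.card) := by
          refine sum_congr rfl fun a _ => ?_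
          rw [sum_sub_distrib, ← sum_filter, filter_mem_eq_inter, sum_const, sum_const,
            nsmul_eq_mul, nsmul_eq_mul]
          simp only [f]; ring
      _ = _ := by rw [sum_sub_distrib, sum_const, nsmul_eq_mul]; ring
  rw [key, sub_nonneg, ← h2, ← h1]
  rcases U.card.eq_zero_or_pos with h0 | hpos
  · simp [card_eq_zero.1 h0]
  · rw [div_le_iff₀ (by exact_mod_cast hpos), mul_comm]
    exact sq_sum_le_card_mul_sum_sq

namespace Hyp

/-- At least half of the trace lives on the moved points. -/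
theorem half_tr (h : Hyp K α) {Z : Finset α} (hZ : Z ⊆ Fix K 1) (hne : Z.Nonempty) :
    tr K Z ≤ 2 * ∑ a ∈ (Mov K 1 : Finset α), wc K Z a := by
  have hMU : (Mov K 1 : Finset α) ⊆ Out K Z := fun x hx =>
    mem_Out.2 fun hc => mem_Mov.1 hx (mem_cl.1 hc 1 hZ)
  have h0 : 0 ≤ ∑ a ∈ Out K Z, ((if a ∈ Mov K 1 then (2 : ℚ) else 0) - 1) * wc K Z a := by
    rw [← sum_fiberwise_of_maps_to (g := orb (LZ K Z)) (t := (Out K Z).image (orb (LZ K Z)))
      (fun x hx => mem_image_of_mem _ hx)]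
    refine sum_nonneg fun o ho => ?_
    obtain ⟨a, ha, rfl⟩ := mem_image.1 ho
    have hfib : (Out K Z).filter (fun x => orb (LZ K Z) x = orb (LZ K Z) a) = orb (LZ K Z) a := by
      ext x
      simp only [mem_filter]
      exact ⟨fun hx => hx.2 ▸ self_mem_orb _ x, fun hx => ⟨orb_subset_Out ha hx, orb_eq hx⟩⟩
    rw [hfib, sum_congr rfl (fun x hx => show
      ((if x ∈ Mov K 1 then (2 : ℚ) else 0) - 1) * wc K Z x =
      ((if x ∈ Mov K 1 then (2 : ℚ) else 0) - 1) * wc K Z a by simp only [wc, orb_eq hx]),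
      ← sum_mul]
    refine mul_nonneg ?_ (wc_nonneg ha)
    rw [sum_sub_distrib, ← sum_filter, filter_mem_eq_inter, sum_const, sum_const, nsmul_eq_mul,
      nsmul_eq_mul, mul_one]
    obtain ⟨g, hg, hgn⟩ : ∃ g : G, Z ⊆ Fix K g ∧ a ∉ Fix K g := by
      simpa [mem_Out, mem_cl] using ha
    have hb := h.orb_bound (A := {g | Z ⊆ Fix K g}) hZ (a := a) (by
      rw [← card_univ]
      refine card_lt_card (ssubset_univ_iff.2 fun hu => ?_)
      obtain ⟨z, hz⟩ := hne
      exact mem_Out.1 (orb_subset_Out ha (show z ∈ orb (LZ K Z) a from hu ▸ mem_univ z))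
        (subset_cl K Z hz)) ⟨g, hg, hgn⟩
    have hq : ((orb (LZ K Z) a).card : ℚ) + 1 ≤ 2 * ((orb (LZ K Z) a ∩ Mov K 1).card : ℚ) := by
      exact_mod_cast hb
    linarith
  rw [tr, mul_sum]
  simp only [sub_mul, ite_mul, zero_mul, one_mul, sum_sub_distrib] at h0
  rw [← sum_filter, filter_mem_eq_inter, inter_eq_right.2 hMU] at h0
  linarith

/-- The Gram inequality. -/
theorem gram (h : Hyp K α) {Z2 : Finset α} (hZ2 : Z2 ⊆ Fix K 1) {omin : ℕ}
    (homin : ∀ a ∈ (Mov K 1 : Finset α), omin ≤ (orb K a).card)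
    (hφ : 2 ≤ (Fix K 1 \ Z2).card)
    (h2t : ∀ p q p' q' : α, p ∉ Z2 → q ∉ Z2 → p ≠ q → p' ∉ Z2 → q' ∉ Z2 → p' ≠ q' →
      ∃ g : G, (∀ z ∈ Z2, g • z = z) ∧ g • p = p' ∧ g • q = q')
    (hint : ∀ p q : α, p ∉ Z2 → q ∉ Z2 → p ≠ q →
      ∃ a ∈ Out K (insert p (insert q Z2)), ∃ b ∈ Out K (insert p (insert q Z2)),
        b ∉ orb (LZ K (insert p (insert q Z2))) a) :
    (omin : ℚ) * ((Fix K 1 \ Z2).card * ((Fix K 1 \ Z2).card - 1)) ≤
      2 * (Mov K 1 : Finset α).card * (((univ \ Z2).card : ℚ) - omin) := by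
  set V := univ \ Z2 with hV
  set F2 := Fix K 1 \ Z2 with hF2
  have hF2V : F2 ⊆ V := sdiff_subset_sdiff (subset_univ _) subset_rfl
  set q : ℚ := (V.card : ℚ) with hq
  have hq2 : 2 ≤ q := by
    rw [hq]; exact_mod_cast hφ.trans (card_le_card hF2V)
  let ZP : α × α → Finset α := fun P => insert P.1 (insert P.2 Z2)
  set D := V.offDiag with hD
  have hDm : ∀ P : α × α, P ∈ D ↔ P.1 ∉ Z2 ∧ P.2 ∉ Z2 ∧ P.1 ≠ P.2 := fun P => by
    simp [hD, hV, mem_offDiag]
  have hfix : ∀ g : G, (∀ z ∈ Z2, g • z = z) → sm g Z2 = Z2 := by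
    intro g hg
    refine eq_of_subset_of_card_le (fun x hx => ?_) (by rw [card_sm])
    obtain ⟨z, hz, rfl⟩ := mem_image.1 hx
    rwa [hg z hz]
  have hZPsm : ∀ g : G, (∀ z ∈ Z2, g • z = z) → ∀ P : α × α,
      sm g (ZP P) = ZP (g • P.1, g • P.2) := by
    intro g hg P
    simp only [ZP]
    rw [sm, image_insert, image_insert, ← sm, hfix g hg]
  have hgV : ∀ g : G, (∀ z ∈ Z2, g • z = z) → ∀ x : α, g • x ∉ Z2 ↔ x ∉ Z2 := fun g hg x => by
    rw [not_iff_not]; exact ⟨fun hx => by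
      have := hfix g hg ▸ hx
      exact smul_mem_sm.1 this, fun hx => by rwa [hg x hx]⟩
  obtain ⟨p0, hp0, p1, hp1, hne01⟩ := one_lt_card.1 (show 1 < F2.card by omega)
  have hP0 : (p0, p1) ∈ D := mem_offDiag.2 ⟨hF2V hp0, hF2V hp1, hne01⟩
  set T0 := tr K (ZP (p0, p1)) with hT0
  have hT : ∀ P ∈ D, tr K (ZP P) = T0 := by
    intro P hP
    obtain ⟨a1, a2, a3⟩ := (hDm _).1 hP0
    obtain ⟨b1, b2, b3⟩ := (hDm P).1 hP
    obtain ⟨g, hg, e1, e2⟩ := h2t _ _ _ _ a1 a2 a3 b1 b2 b3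
    dsimp only at e1 e2
    rw [hT0, ← tr_sm (K := K) g (ZP (p0, p1)), hZPsm g hg, e1, e2]
  have hT0pos : 0 < T0 := by
    obtain ⟨a1, a2, a3⟩ := (hDm _).1 hP0
    obtain ⟨a, ha, b, hb, hab⟩ := hint p0 p1 a1 a2 a3
    refine sum_pos (fun x hx => wc_pos hx fun he => hab ?_) ⟨a, ha⟩
    have hax : a ∈ orb (LZ K (ZP (p0, p1))) x := he ▸ ha
    rw [orb_eq hax, he]
    exact hb
  let W : α → α → ℚ := fun a b => ∑ P ∈ D, ww K (ZP P) a b
  have hWinv : ∀ g : G, (∀ z ∈ Z2, g • z = z) → ∀ a b, W (g • a) (g • b) = W a b := by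
    intro g hg a b
    have hg' : ∀ z ∈ Z2, g⁻¹ • z = z := fun z hz => by rw [inv_smul_eq_iff, hg z hz]
    symm
    refine sum_nbij' (fun P => (g • P.1, g • P.2)) (fun P => (g⁻¹ • P.1, g⁻¹ • P.2)) ?_ ?_
      (fun P _ => by simp) (fun P _ => by simp) ?_
    · intro P hP
      rw [hDm] at hP ⊢
      exact ⟨(hgV g hg _).2 hP.1, (hgV g hg _).2 hP.2.1, fun e => hP.2.2 (MulAction.injective g e)⟩
    · intro P hP
      rw [hDm] at hP ⊢
      exact ⟨(hgV _ hg' _).2 hP.1, (hgV _ hg' _).2 hP.2.1,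
        fun e => hP.2.2 (MulAction.injective g⁻¹ e)⟩
    · intro P _
      rw [← hZPsm g hg, ww_sm]
  have hdiag : ∀ a ∈ V, W a a = W p0 p0 := by
    intro a ha
    have hp : p0 ∉ Z2 := ((hDm _).1 hP0).1
    have hp' : p1 ∉ Z2 := ((hDm _).1 hP0).2.1
    have ha' : a ∉ Z2 := by simpa [hV] using ha
    obtain ⟨b, hb, hba⟩ : ∃ b, b ∉ Z2 ∧ a ≠ b := by
      by_cases he : a = p0
      · exact ⟨p1, hp', he ▸ hne01⟩
      · exact ⟨p0, hp, he⟩
    obtain ⟨g, hg, e1, -⟩ := h2t p0 p1 a b hp hp' hne01 ha' hb hba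
    rw [← e1, hWinv g hg]
  have hoff : ∀ a ∈ V, ∀ b ∈ V, a ≠ b → W a b = W p0 p1 := by
    intro a ha b hb hab
    obtain ⟨a1, a2, a3⟩ := (hDm _).1 hP0
    obtain ⟨g, hg, e1, e2⟩ := h2t _ _ a b a1 a2 a3 (by simpa [hV] using ha) (by simpa [hV] using hb) hab
    rw [← e1, ← e2, hWinv g hg]
  have hnotin : ∀ P, ∀ x : α, x ∈ Out K (ZP P) → x ∈ V := by
    intro P x hx
    simp only [hV, mem_sdiff, mem_univ, true_and]
    exact fun hxZ => mem_Out.1 hx (subset_cl K _ (mem_insert_of_mem (mem_insert_of_mem hxZ)))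
  have hrow : ∀ a, ∑ b ∈ V, W a b = 0 := by
    intro a
    rw [sum_comm]
    refine sum_eq_zero fun P _ => ?_
    rw [← ww_row (K := K) (Z := ZP P) a]
    refine sum_subset (subset_univ _) fun x _ hx => ?_
    rw [ww, if_neg]
    exact fun hc => hx (hnotin P x hc.2)
  have htrace : ∑ a ∈ V, W a a = q * (q - 1) * T0 := by
    rw [sum_comm]
    have : ∀ P ∈ D, ∑ a ∈ V, ww K (ZP P) a a = T0 := by
      intro P hP
      rw [← hT P hP, tr, ← sum_subset (s₁ := Out K (ZP P)) (s₂ := V) (fun x => hnotin P x)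
        (fun x _ hx => by rw [ww, if_neg]; exact fun hc => hx hc.1)]
      exact sum_congr rfl fun a ha => ww_self ha
    rw [sum_congr rfl this, sum_const, nsmul_eq_mul, hD, offDiag_card,
      Nat.cast_sub (Nat.le_mul_self _), Nat.cast_mul, hq]
    ring
  have hA : W p0 p0 = (q - 1) * T0 := by
    rw [sum_congr rfl hdiag, sum_const, nsmul_eq_mul, ← hq] at htrace
    have hq0 : q ≠ 0 := by linarith
    exact mul_left_cancel₀ hq0 (by rw [htrace]; ring)
  have hp0V : p0 ∈ V := hF2V hp0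
  have hB : W p0 p1 = -T0 := by
    have h2 := hrow p0
    rw [← add_sum_erase V _ hp0V, sum_congr rfl (fun b hb => hoff p0 hp0V b (mem_of_mem_erase hb)
      (ne_of_mem_erase hb).symm), sum_const, nsmul_eq_mul, card_erase_of_mem hp0V,
      Nat.cast_sub (card_pos.2 ⟨_, hp0V⟩), Nat.cast_one, ← hq, hA] at h2
    have hq1 : q - 1 ≠ 0 := by linarith
    exact mul_left_cancel₀ hq1 (by linarith)
  set M := (Mov K 1 : Finset α) with hM
  set D' := F2.offDiag with hD'
  have hD'D : D' ⊆ D := fun P hP => by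
    rw [hD', mem_offDiag] at hP
    exact mem_offDiag.2 ⟨hF2V hP.1, hF2V hP.2.1, hP.2.2⟩
  have hD'F : ∀ P ∈ D', ZP P ⊆ Fix K 1 := by
    intro P hP
    rw [hD', mem_offDiag] at hP
    exact insert_subset (mem_sdiff.1 hP.1).1 (insert_subset (mem_sdiff.1 hP.2.1).1 hZ2)
  have hkey : ∀ a ∈ M, (omin : ℚ) * ∑ P ∈ D', wc K (ZP P) a ≤ (q - omin) * T0 := by
    intro a ha
    set O := orb K a with hO
    have hOM : O ⊆ M := by
      intro b hb
      rw [hM, mem_Mov]
      intro hbf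
      apply mem_Mov.1 ha
      obtain ⟨k, hk, rfl⟩ := mem_orb.1 hb
      have h2 := mem_Fix.1 hbf k⁻¹ (K.inv_mem hk)
      rw [inv_one, one_smul, inv_smul_smul] at h2
      rwa [← h2] at hbf
    have hOV : O ⊆ V := fun b hb => by
      simp only [hV, mem_sdiff, mem_univ, true_and]
      exact fun hbz => mem_Mov.1 (hOM hb) (hZ2 hbz)
    have hOe : ∀ b ∈ O, ∑ c ∈ O, W b c = (q - O.card) * T0 := by
      intro b hb
      rw [← add_sum_erase O _ hb, hdiag b (hOV hb),
        sum_congr rfl (fun c hc => hoff b (hOV hb) c (hOV (mem_of_mem_erase hc)) (ne_of_mem_erase hc).symm),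
        sum_const, nsmul_eq_mul, card_erase_of_mem hb, Nat.cast_sub (card_pos.2 ⟨_, hb⟩),
        Nat.cast_one, hA, hB]
      ring
    have hOO : ∑ P ∈ D, ∑ b ∈ O, ∑ c ∈ O, ww K (ZP P) b c = O.card * ((q - O.card) * T0) := by
      have h7 : ∀ b ∈ O, ∑ P ∈ D, ∑ c ∈ O, ww K (ZP P) b c = (q - O.card) * T0 := fun b hb => by
        rw [sum_comm]; exact hOe b hb
      rw [sum_comm, sum_congr rfl h7, sum_const, nsmul_eq_mul]
    have hle : ∑ P ∈ D', ∑ b ∈ O, ∑ c ∈ O, ww K (ZP P) b c ≤ O.card * ((q - O.card) * T0) :=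
      hOO ▸ sum_le_sum_of_subset_of_nonneg hD'D (fun P _ _ => ww_psd K _ _)
    have hterm : ∀ P ∈ D', ∑ b ∈ O, ∑ c ∈ O, ww K (ZP P) b c =
        (O.card : ℚ) * ((O.card : ℚ) * wc K (ZP P) a) := by
      intro P hP
      have hKL : K ≤ LZ K (ZP P) := le_gen (hD'F P hP)
      have hsub : O ⊆ orb (LZ K (ZP P)) a := fun b hb => by
        obtain ⟨k, hk, rfl⟩ := mem_orb.1 hb
        exact mem_orb.2 ⟨k, hKL hk, rfl⟩
      have hOut : ∀ b ∈ O, b ∈ Out K (ZP P) := fun b hb =>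
        mem_Out.2 fun hc => mem_Mov.1 (hOM hb) (mem_cl.1 hc 1 (hD'F P hP))
      rw [sum_congr rfl (fun b hb => sum_congr rfl (fun c hc => show ww K (ZP P) b c = wc K (ZP P) a by
        rw [ww, if_pos ⟨hOut b hb, hOut c hc⟩, if_pos (by rw [orb_eq (hsub hb)]; exact hsub hc), wc,
          orb_eq (hsub hb)])), sum_const, sum_const, nsmul_eq_mul, nsmul_eq_mul]
    rw [sum_congr rfl hterm, ← mul_sum, ← mul_sum] at hle
    have hOpos : (0 : ℚ) < O.card := by exact_mod_cast orb_card_pos K a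
    have h3 := le_of_mul_le_mul_left hle hOpos
    have hom : (omin : ℚ) ≤ O.card := by exact_mod_cast homin a ha
    have hnn : 0 ≤ ∑ P ∈ D', wc K (ZP P) a := sum_nonneg fun P hP => wc_nonneg
      (mem_Out.2 fun hc => mem_Mov.1 ha (mem_cl.1 hc 1 (hD'F P hP)))
    have h4 := mul_le_mul_of_nonneg_right hom hnn
    have h5 : (q - O.card) * T0 ≤ (q - omin) * T0 := mul_le_mul_of_nonneg_right (by linarith) hT0pos.le
    linarith
  have hsum : (omin : ℚ) * ∑ P ∈ D', ∑ a ∈ M, wc K (ZP P) a ≤ M.card * ((q - omin) * T0) := by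
    rw [sum_comm, mul_sum]
    refine (sum_le_sum hkey).trans ?_
    rw [sum_const, nsmul_eq_mul]
  have hlow : ((F2.card : ℚ) * ((F2.card : ℚ) - 1)) * T0 ≤ 2 * ∑ P ∈ D', ∑ a ∈ M, wc K (ZP P) a := by
    rw [mul_sum]
    refine le_trans (le_of_eq ?_) (sum_le_sum fun P hP => h.half_tr (hD'F P hP) (insert_nonempty _ _))
    rw [sum_congr rfl (fun P hP => hT P (hD'D hP)), sum_const, nsmul_eq_mul, hD', offDiag_card,
      Nat.cast_sub (Nat.le_mul_self _), Nat.cast_mul]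
    ring
  have h6 := mul_le_mul_of_nonneg_left hlow (Nat.cast_nonneg (α := ℚ) omin)
  refine le_of_mul_le_mul_right (a := T0) ?_ hT0pos
  linarith

end Hyp

end

end Cfsg.Agent.ProFix
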