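import Cfsg.Agent.Lib.Perm.ProFix.Levels

/-!
The geometry at the jump level: blocks, packing, and the contradictions.
-/

set_option autoImplicit false

namespace Cfsg.Agent.ProFix

open Finset
open scoped Classical
open Cfsg.Agent.Perm.Pronormal (cj mem_cj cj_cj cj_one)

noncomputable section

variable {G : Type} [Group G] {α : Type} [Fintype α] [MulAction G α] {K : Subgroup G}

/-- The data of a jump. -/
structure Jump (K : Subgroup G) (α : Type) [Fintype α] [MulAction G α] (j l : ℕ) : Prop where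
  hyp : Hyp K α
  two_le : 2 ≤ j
  ton : ∀ k < j, TOn G α k
  av : ∀ Z : Finset α, Z.card = j → Av K Z
  size : ∀ Z : Finset α, Z.card = j → (cl K Z).card = l
  lt : j < l

namespace Jump

variable {j l : ℕ}

theorem fix_card (J : Jump K α j l) (g : G) :
    (Fix K g : Finset α).card = (Mov K 1 : Finset α).card := by
  rw [card_Fix, J.hyp.card_fix_eq]

theorem exists_sub (J : Jump K α j l) {Z : Finset α} {g : G} (hZ : Z.card ≤ j) (hsub : Z ⊆ Fix K g)
    (hj : j ≤ (Mov K 1 : Finset α).card) :
    ∃ Y : Finset α, Z ⊆ Y ∧ Y ⊆ Fix K g ∧ Y.card = j :=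
  exists_subsuperset_card_eq hsub hZ (by rw [J.fix_card]; exact hj)

theorem j_le (J : Jump K α j l) (hj : j ≤ Fintype.card α) : j ≤ (Mov K 1 : Finset α).card := by
  obtain ⟨T, -, hT⟩ := exists_subset_card_eq (s := (univ : Finset α)) (n := j) (by rwa [card_univ])
  obtain ⟨g, hg⟩ := J.av T hT
  have := card_le_card hg
  rwa [J.fix_card, hT] at this

theorem uniq (J : Jump K α j l) {Z W : Finset α} (hZ : Z.card = j) (hW : W.card = j)
    (h : Z ⊆ cl K W) : cl K Z = cl K W :=
  eq_of_subset_of_card_le (cl_subset_cl h) (by rw [J.size Z hZ, J.size W hW])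

/-- The packing bound. -/
theorem packing (J : Jump K α j l) {A S : Finset α}
    (hA : ∀ Z : Finset α, Z.card = j → Z ⊆ A → cl K Z ⊆ A)
    (hS : S.card = j + 1) (hSA : S ⊆ A) (hno : ∀ W : Finset α, W.card = j → ¬ S ⊆ cl K W) :
    (j + 1) * (l - j + 1) ≤ A.card := by
  let E : α → Finset α := fun a => cl K (S.erase a) \ S
  have hc : ∀ a ∈ S, (S.erase a).card = j := fun a ha => by rw [card_erase_of_mem ha, hS]; omega
  have hnot : ∀ a ∈ S, a ∉ cl K (S.erase a) := fun a ha hac => hno _ (hc a ha) fun x hx => by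
    by_cases hxa : x = a
    · rwa [hxa]
    · exact subset_cl K _ (mem_erase.2 ⟨hxa, hx⟩)
  have hE : ∀ a ∈ S, (E a).card = l - j := by
    intro a ha
    have he : cl K (S.erase a) \ S = cl K (S.erase a) \ S.erase a := by
      ext x
      simp only [mem_sdiff, mem_erase, not_and]
      exact ⟨fun h => ⟨h.1, fun _ => h.2⟩,
        fun h => ⟨h.1, fun hx => h.2 (fun e => hnot a ha (e ▸ h.1)) hx⟩⟩
    simp only [E, he, card_sdiff_of_subset (subset_cl K _), J.size _ (hc a ha), hc a ha]
  have hdisj : ∀ a ∈ S, ∀ a' ∈ S, a ≠ a' → Disjoint (E a) (E a') := by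
    intro a ha a' ha' hne
    rw [disjoint_left]
    intro y hy hy'
    simp only [E, mem_sdiff] at hy hy'
    set Z := insert y ((S.erase a).erase a') with hZ
    have hZc : Z.card = j := by
      rw [hZ, card_insert_of_notMem (by simp [hy.2]),
        card_erase_of_mem (mem_erase.2 ⟨Ne.symm hne, ha'⟩), hc a ha]
      have := J.two_le; omega
    have h1 := J.uniq hZc (hc a ha) (insert_subset hy.1 ((erase_subset _ _).trans (subset_cl K _)))
    have h2 := J.uniq hZc (hc a' ha') (insert_subset hy'.1 (fun x hx => by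
      simp only [mem_erase] at hx
      exact subset_cl K _ (mem_erase.2 ⟨hx.1, hx.2.2⟩)))
    refine hnot a ha ?_
    rw [← h1, h2]
    exact subset_cl K _ (mem_erase.2 ⟨hne, ha⟩)
  have hsub : S ∪ S.biUnion E ⊆ A := union_subset hSA (biUnion_subset.2 fun a ha =>
    sdiff_subset.trans (hA _ (hc a ha) ((erase_subset _ _).trans hSA)))
  have hd : Disjoint S (S.biUnion E) := by
    rw [disjoint_biUnion_right]
    exact fun a _ => disjoint_sdiff
  have := card_le_card hsub
  rw [card_union_of_disjoint hd, card_biUnion (fun a ha a' ha' hne => hdisj a ha a' ha' hne),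
    sum_congr rfl hE, sum_const, smul_eq_mul, hS] at this
  rw [Nat.mul_add, Nat.mul_one]
  omega

theorem mov_not_block (J : Jump K α j l) (hl : (Mov K 1 : Finset α).card ≤ l) {W : Finset α}
    (hW : W.card = j) : cl K W ≠ Mov K 1 := by
  intro he
  obtain ⟨g, hg⟩ := J.av W hW
  obtain ⟨a, ha⟩ := card_pos.1 J.hyp.mov_pos
  refine J.hyp.orb_not_subset ha g fun x hx => cl_subset_Fix hg ?_
  rw [he, mem_Mov]
  intro hxf
  apply mem_Mov.1 ha
  obtain ⟨k, hk, rfl⟩ := mem_orb.1 hx
  have h2 := mem_Fix.1 hxf k⁻¹ (K.inv_mem hk)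
  rw [inv_one, one_smul, inv_smul_smul] at h2
  rwa [← h2] at hxf

theorem class_dvd (J : Jump K α j l) {Z0 S : Finset α} (hZ0 : Z0.card = j - 1) (hZS : Z0 ⊆ S)
    (hS : ∀ Z : Finset α, Z.card = j → Z ⊆ S → cl K Z ⊆ S) :
    l - (j - 1) ∣ S.card - (j - 1) := by
  let B : α → Finset α := fun x => cl K (insert x Z0)
  have hc : ∀ x, x ∈ S \ Z0 → (insert x Z0).card = j := fun x hx => by
    rw [card_insert_of_notMem (mem_sdiff.1 hx).2, hZ0]; have := J.two_le; omega
  have hfib : ∀ x ∈ S \ Z0, ((S \ Z0).filter fun y => B y = B x).card = l - (j - 1) := by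
    intro x hx
    have he : ((S \ Z0).filter fun y => B y = B x) = B x \ Z0 := by
      ext y
      simp only [mem_filter, mem_sdiff]
      constructor
      · rintro ⟨⟨hyS, hy0⟩, he⟩
        exact ⟨he ▸ subset_cl K _ (mem_insert_self _ _), hy0⟩
      · rintro ⟨hyB, hy0⟩
        have hyS : y ∈ S := hS _ (hc x hx) (insert_subset (mem_sdiff.1 hx).1 hZS) hyB
        refine ⟨⟨hyS, hy0⟩, J.uniq (hc y (mem_sdiff.2 ⟨hyS, hy0⟩)) (hc x hx) ?_⟩
        exact insert_subset hyB ((subset_insert _ _).trans (subset_cl K _))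
    rw [he, card_sdiff_of_subset ((subset_insert _ _).trans (subset_cl K _)), J.size _ (hc x hx), hZ0]
  have hcard : (S \ Z0).card = S.card - (j - 1) := by rw [card_sdiff_of_subset hZS, hZ0]
  rw [← hcard, card_eq_sum_card_fiberwise (f := B) (t := (S \ Z0).image B)
    (fun x hx => mem_image_of_mem _ hx)]
  refine dvd_sum fun b hb => ?_
  obtain ⟨x, hx, rfl⟩ := mem_image.1 hb
  rw [hfib x hx]

theorem map_card (J : Jump K α j l) {S S' : Finset α} (hS : S.card ≤ j) (he : S.card = S'.card) :
    ∃ g : G, sm g S = S' :=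
  map_sets (fun k hk => J.ton k (by omega)) S S' rfl he.symm

/-- The fixed set is not a block. -/
theorem fix_not_block (J : Jump K α j l) (hjm : j ≤ (Mov K 1 : Finset α).card)
    (hl : l = (Mov K 1 : Finset α).card) (hb2 : l = j + 1) (heven : Even l) : False := by
  set M := (Mov K 1 : Finset α) with hM
  set F := (Fix K 1 : Finset α) with hF
  have hFc : F.card = l := by rw [hF, J.fix_card, hl]
  have hMF : ∀ x : α, x ∈ M ↔ x ∉ F := fun x => mem_Mov
  let Bl : Finset (Finset α) := univ.filter fun B => ∃ W : Finset α, W.card = j ∧ cl K W = B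
  have hBl : ∀ B, B ∈ Bl ↔ ∃ W : Finset α, W.card = j ∧ cl K W = B := fun B => by simp [Bl]
  have hBc : ∀ B ∈ Bl, B.card = l := fun B hB => by
    obtain ⟨W, hW, rfl⟩ := (hBl B).1 hB
    exact J.size W hW
  have hFB : F ∈ Bl := by
    obtain ⟨W, -, hWF, hW⟩ := J.exists_sub (Z := ∅) (g := 1) (by simp) (empty_subset _) hjm
    exact (hBl F).2 ⟨W, hW, eq_of_subset_of_card_le (cl_subset_Fix hWF) (by rw [J.size W hW, hFc])⟩
  have hMB : M ∉ Bl := fun hB => by
    obtain ⟨W, hW, he⟩ := (hBl M).1 hB
    exact J.mov_not_block (by rw [hl]) hW he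
  let c : Finset α → ℤ := fun S => ((Bl.filter fun B => S ⊆ B).card : ℤ)
  have hBsm : ∀ g : G, ∀ B ∈ Bl, sm g B ∈ Bl := fun g B hB => by
    obtain ⟨W, hW, rfl⟩ := (hBl B).1 hB
    exact (hBl _).2 ⟨sm g W, by rw [card_sm, hW], cl_sm K g W⟩
  have hcsm : ∀ (g : G) S, c (sm g S) = c S := by
    intro g S
    simp only [c]
    norm_cast
    symm
    refine card_bij' (fun B _ => sm g B) (fun B _ => sm g⁻¹ B) ?_ ?_ (fun B _ => sm_inv_sm g B)
      (fun B _ => sm_sm_inv g B)
    · intro B hB
      simp only [mem_filter] at hB ⊢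
      exact ⟨hBsm g B hB.1, sm_subset hB.2⟩
    · intro B hB
      simp only [mem_filter] at hB ⊢
      refine ⟨hBsm _ B hB.1, ?_⟩
      rw [← sm_inv_sm g S]; exact sm_subset hB.2
  let φ : ℕ → ℤ := fun k => if h : ∃ S : Finset α, S.card = k then c h.choose else 0
  have hcφ : ∀ S : Finset α, S.card ≤ j → c S = φ S.card := by
    intro S hS
    have hex : ∃ T : Finset α, T.card = S.card := ⟨S, rfl⟩
    simp only [φ, dif_pos hex]
    obtain ⟨g, hg⟩ := J.map_card hS hex.choose_spec.symm
    rw [← hg, hcsm]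
  let d : Finset α → ℤ := fun X => ((Bl.filter fun B => X ∩ B = ∅).card : ℤ)
  have hd : ∀ X : Finset α, X.card = l →
      d X = (∑ S ∈ X.powerset, (-1 : ℤ) ^ S.card * φ S.card) + (c X - φ l) := by
    intro X hX
    have e1 : d X = ∑ S ∈ X.powerset, (-1 : ℤ) ^ S.card * c S := by
      calc d X = ∑ B ∈ Bl, (if X ∩ B = ∅ then (1 : ℤ) else 0) := by simp [d]
        _ = ∑ B ∈ Bl, ∑ S ∈ (X ∩ B).powerset, (-1 : ℤ) ^ S.card := by
          simp only [sum_powerset_neg_one_pow_card]
        _ = ∑ B ∈ Bl, ∑ S ∈ X.powerset, if S ⊆ B then (-1 : ℤ) ^ S.card else 0 := by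
          refine sum_congr rfl fun B _ => ?_
          rw [← sum_filter]
          refine sum_congr ?_ fun _ _ => rfl
          ext S; simp only [mem_filter, mem_powerset, subset_inter_iff]
        _ = ∑ S ∈ X.powerset, (-1 : ℤ) ^ S.card * c S := by
          rw [sum_comm]
          refine sum_congr rfl fun S _ => ?_
          rw [← sum_filter, sum_const, nsmul_eq_mul, mul_comm]
    have e2 : ∑ S ∈ X.powerset, ((-1 : ℤ) ^ S.card * c S - (-1 : ℤ) ^ S.card * φ S.card) =
        c X - φ l := by
      rw [sum_eq_single X]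
      · rw [hX, heven.neg_one_pow, one_mul, one_mul]
      · intro S hS hne
        have hlt := card_lt_card ((mem_powerset.1 hS).ssubset_of_ne hne)
        rw [hcφ S (by omega), sub_self]
      · exact fun h => absurd (mem_powerset_self X) h
    rw [sum_sub_distrib, ← e1] at e2
    linarith
  have hMc : M.card = l := hl.symm
  have hsum : ∑ S ∈ F.powerset, (-1 : ℤ) ^ S.card * φ S.card =
      ∑ S ∈ M.powerset, (-1 : ℤ) ^ S.card * φ S.card := by
    rw [sum_powerset_apply_card (fun k => (-1 : ℤ) ^ k * φ k),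
      sum_powerset_apply_card (fun k => (-1 : ℤ) ^ k * φ k), hFc, hMc]
  have hdF : d F = 0 := by
    simp only [d, Nat.cast_eq_zero, card_eq_zero, filter_eq_empty_iff]
    intro B hB he
    apply hMB
    have hsub : B ⊆ M := fun x hx => (hMF x).2 fun hxF =>
      absurd (mem_inter.2 ⟨hxF, hx⟩) (by rw [he]; exact notMem_empty x)
    rwa [← eq_of_subset_of_card_le hsub (by rw [hMc, hBc B hB])]
  have hdM : d M = 1 := by
    have he : (Bl.filter fun B => M ∩ B = ∅) = {F} := by
      ext B
      simp only [mem_filter, mem_singleton]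
      constructor
      · rintro ⟨hB, he⟩
        refine eq_of_subset_of_card_le (fun x hx => ?_) (by rw [hFc, hBc B hB])
        by_contra hxF
        exact absurd (mem_inter.2 ⟨(hMF x).2 hxF, hx⟩) (by rw [he]; exact notMem_empty x)
      · rintro rfl
        refine ⟨hFB, ?_⟩
        ext x; simp [hMF]
    simp [d, he]
  have hcF : c F = 1 := by
    have he : (Bl.filter fun B => F ⊆ B) = {F} := by
      ext B
      simp only [mem_filter, mem_singleton]
      exact ⟨fun h => (eq_of_subset_of_card_le h.2 (by rw [hFc, hBc B h.1])).symm,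
        fun h => by rw [h]; exact ⟨hFB, subset_rfl⟩⟩
    simp [c, he]
  have hcM : c M = 0 := by
    simp only [c, Nat.cast_eq_zero, card_eq_zero, filter_eq_empty_iff]
    intro B hB hsub
    exact hMB (by rwa [eq_of_subset_of_card_le hsub (by rw [hMc, hBc B hB])])
  have h1 := hd F hFc
  have h2 := hd M hMc
  rw [hdF, hcF, hsum] at h1
  rw [hdM, hcM] at h2
  linarith

/-- The quadruple case. -/
theorem quad (J : Jump K α j l) (hj : j = 3) (hl : l = 4) : False := by
  subst hj
  haveI := J.hyp.fin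
  letI := Fintype.ofFinite G
  set m := (Mov K 1 : Finset α).card with hm
  have hn := J.hyp.first_step.1
  have key : ∀ g : G, m ≤ 2 * ((Fix K 1 : Finset α) ∩ Fix K g).card := by
    intro g
    have hFg : ((Fix K g : Finset α) \ Fix K 1).card + ((Fix K 1 : Finset α) ∩ Fix K g).card = m := by
      rw [inter_comm, card_sdiff_add_card_inter, J.fix_card]
    have hF1 : ((Fix K 1 : Finset α) \ Fix K g).card + ((Fix K 1 : Finset α) ∩ Fix K g).card = m := by
      rw [card_sdiff_add_card_inter, J.fix_card]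
    suffices hs : ((Fix K g : Finset α) \ Fix K 1).card ≤
        ((Fix K 1 : Finset α) ∩ Fix K g).card by omega
    rcases ((Fix K 1 : Finset α) \ Fix K g).eq_empty_or_nonempty with he | ⟨x, hx⟩
    · rw [he, card_empty] at hF1; omega
    obtain ⟨z, hz⟩ : ((Fix K 1 : Finset α) ∩ Fix K g).Nonempty := by
      by_contra he
      rw [not_nonempty_iff_eq_empty] at he
      obtain ⟨a, ha⟩ := card_pos.1 J.hyp.mov_pos
      have hsub : (Fix K g : Finset α) ⊆ Mov K 1 := fun y hy => mem_Mov.2 fun hy1 =>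
        absurd (mem_inter.2 ⟨hy1, hy⟩) (by rw [he]; exact notMem_empty y)
      have heq := eq_of_subset_of_card_le hsub (by rw [J.fix_card])
      refine J.hyp.orb_not_subset ha g fun y hy => ?_
      rw [heq, mem_Mov]
      intro hy1
      apply mem_Mov.1 ha
      obtain ⟨k, hk, rfl⟩ := mem_orb.1 hy
      have h2 := mem_Fix.1 hy1 k⁻¹ (K.inv_mem hk)
      rw [inv_one, one_smul, inv_smul_smul] at h2
      rwa [← h2] at hy1
    simp only [mem_inter, mem_sdiff] at hx hz
    have hzx : z ≠ x := fun e => hx.2 (e ▸ hz.2)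
    have hT : ∀ y, y ∈ (Fix K g : Finset α) \ Fix K 1 → ({z, x, y} : Finset α).card = 3 := by
      intro y hy
      rw [mem_sdiff] at hy
      have h1 : z ≠ y := fun e => hy.2 (e ▸ hz.1)
      have h2 : x ≠ y := fun e => hy.2 (e ▸ hx.1)
      rw [card_eq_three]
      exact ⟨z, x, y, hzx, h1, h2, rfl⟩
    have hex : ∀ y ∈ (Fix K g : Finset α) \ Fix K 1,
        ∃ w, w ∈ cl K ({z, x, y} : Finset α) ∧ w ∉ (Fix K 1 : Finset α) ∧ w ∉ Fix K g := by
      intro y hy
      have hyT := hT y hy
      rw [mem_sdiff] at hy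
      obtain ⟨w, hw, hwn⟩ := exists_mem_notMem_of_card_lt_card
        (show ({z, x, y} : Finset α).card < (cl K ({z, x, y} : Finset α)).card by
          rw [hyT, J.size _ hyT, hl]; omega)
      simp only [mem_insert, mem_singleton, not_or] at hwn
      refine ⟨w, hw, fun hw1 => ?_, fun hwg => ?_⟩
      · have hc : ({z, x, w} : Finset α).card = 3 :=
          card_eq_three.2 ⟨z, x, w, hzx, Ne.symm hwn.1, Ne.symm hwn.2.1, rfl⟩
        have he := J.uniq hc hyT (insert_subset (subset_cl K _ (by simp))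
          (insert_subset (subset_cl K _ (by simp)) (singleton_subset_iff.2 hw)))
        refine hy.2 (cl_subset_Fix (Z := ({z, x, w} : Finset α)) ?_ (he ▸ subset_cl K _ (by simp)))
        exact insert_subset hz.1 (insert_subset hx.1 (singleton_subset_iff.2 hw1))
      · have hzy : z ≠ y := fun e => hy.2 (e ▸ hz.1)
        have hc : ({z, y, w} : Finset α).card = 3 :=
          card_eq_three.2 ⟨z, y, w, hzy, Ne.symm hwn.1, Ne.symm hwn.2.2, rfl⟩
        have he := J.uniq hc hyT (insert_subset (subset_cl K _ (by simp))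
          (insert_subset (subset_cl K _ (by simp)) (singleton_subset_iff.2 hw)))
        refine hx.2 (cl_subset_Fix (Z := ({z, y, w} : Finset α)) ?_ (he ▸ subset_cl K _ (by simp)))
        exact insert_subset hz.2 (insert_subset hy.1 (singleton_subset_iff.2 hwg))
    choose w hw hw1 hwg using hex
    have hle : ((Fix K g : Finset α) \ Fix K 1).card ≤ (univ \ ((Fix K 1 : Finset α) ∪ Fix K g)).card := by
      refine card_le_card_of_injOn (fun y => if h : y ∈ (Fix K g : Finset α) \ Fix K 1 then w y h else z)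
        (fun y hy => ?_) (fun y hy y' hy' he => ?_)
      · rw [Finset.mem_coe] at hy ⊢
        simp only [dif_pos hy]
        simp [hw1 y hy, hwg y hy]
      · rw [Finset.mem_coe] at hy hy'
        simp only [dif_pos hy, dif_pos hy'] at he
        by_contra hne
        have hzw : z ≠ w y hy := fun e => hw1 y hy (e ▸ hz.1)
        have hxw : x ≠ w y hy := fun e => hw1 y hy (e ▸ hx.1)
        have hc : ({z, x, w y hy} : Finset α).card = 3 :=
          card_eq_three.2 ⟨z, x, w y hy, hzx, hzw, hxw, rfl⟩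
        have he1 := J.uniq hc (hT y hy) (insert_subset (subset_cl K _ (by simp))
          (insert_subset (subset_cl K _ (by simp)) (singleton_subset_iff.2 (hw y hy))))
        have he2 := J.uniq hc (hT y' hy') (insert_subset (subset_cl K _ (by simp))
          (insert_subset (subset_cl K _ (by simp)) (singleton_subset_iff.2 (he ▸ hw y' hy'))))
        have hsub : ({z, x, w y hy, y, y'} : Finset α) ⊆ cl K ({z, x, y} : Finset α) := by
          refine insert_subset (subset_cl K _ (by simp)) (insert_subset (subset_cl K _ (by simp))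
            (insert_subset (hw y hy) (insert_subset (subset_cl K _ (by simp))
              (singleton_subset_iff.2 ?_))))
          rw [← he1, he2]
          exact subset_cl K _ (by simp)
        have h5 := card_le_card hsub
        rw [J.size _ (hT y hy), hl] at h5
        rw [mem_sdiff] at hy hy'
        rw [card_insert_of_notMem, card_insert_of_notMem, card_insert_of_notMem,
          card_pair hne] at h5
        · omega
        · simp only [mem_insert, mem_singleton, not_or]
          exact ⟨fun e => hwg y (mem_sdiff.2 hy) (by rw [e]; exact hy.1), fun e => hwg y (mem_sdiff.2 hy) (by rw [e]; exact hy'.1)⟩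
        · simp only [mem_insert, mem_singleton, not_or]
          exact ⟨hxw, fun e => hy.2 (e ▸ hx.1), fun e => hy'.2 (e ▸ hx.1)⟩
        · simp only [mem_insert, mem_singleton, not_or]
          exact ⟨hzx, hzw, fun e => hy.2 (e ▸ hz.1), fun e => hy'.2 (e ▸ hz.1)⟩
    have hu : (univ \ ((Fix K 1 : Finset α) ∪ Fix K g)).card + ((Fix K 1 : Finset α) ∪ Fix K g).card
        = Fintype.card α := by rw [card_sdiff_add_card_eq_card (subset_univ _), card_univ]
    have hui := card_union_add_card_inter (Fix K 1 : Finset α) (Fix K g)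
    rw [J.fix_card, J.fix_card] at hui
    omega
  have hS : ∀ (X : Finset α), ∑ g : G, ((X ∩ Fix K g : Finset α)).card =
      ∑ x ∈ X, (univ.filter fun g : G => x ∈ (Fix K g : Finset α)).card := by
    intro X
    calc ∑ g : G, (X ∩ Fix K g).card = ∑ g : G, ∑ x ∈ X, if x ∈ (Fix K g : Finset α) then 1 else 0 := by
          refine sum_congr rfl fun g _ => ?_
          rw [← filter_mem_eq_inter, card_filter]
      _ = _ := by
          rw [sum_comm]
          exact sum_congr rfl fun x _ => (card_filter _ _).symm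
  obtain ⟨a, ha⟩ := card_pos.1 J.hyp.mov_pos
  set c := (univ.filter fun g : G => a ∈ (Fix K g : Finset α)).card
  have hcc : ∀ x : α, (univ.filter fun g : G => x ∈ (Fix K g : Finset α)).card = c := by
    intro x
    obtain ⟨u, rfl⟩ := J.hyp.exists_smul a x
    refine card_bij' (fun g _ => u⁻¹ * g) (fun g _ => u * g) ?_ ?_ (by simp) (by simp)
    · intro g hg
      simp only [mem_filter, mem_univ, true_and] at hg ⊢
      rw [← smul_mem_Fix (h := u)]; simpa using hg
    · intro g hg
      simp only [mem_filter, mem_univ, true_and] at hg ⊢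
      exact smul_mem_Fix.2 hg
  have h1 := hS univ
  simp only [univ_inter, J.fix_card] at h1
  rw [sum_congr rfl (fun x _ => hcc x), sum_const, sum_const, smul_eq_mul, smul_eq_mul,
    card_univ, card_univ] at h1
  have h2 := hS (Fix K 1 : Finset α)
  rw [sum_congr rfl (fun x _ => hcc x), sum_const, smul_eq_mul, J.fix_card] at h2
  have h3 : ∑ _g : G, m < ∑ g : G, 2 * ((Fix K 1 : Finset α) ∩ Fix K g).card := by
    refine sum_lt_sum (fun g _ => key g) ⟨1, mem_univ _, ?_⟩
    rw [inter_self, J.fix_card]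
    have := J.hyp.mov_pos
    omega
  rw [← mul_sum, h2, sum_const, smul_eq_mul, card_univ] at h3
  rw [← hm] at h1 h3
  rw [← hn] at h1
  have h4 : Fintype.card G * m = 2 * (m * c) := by rw [h1]; ring
  omega

theorem orb_of (J : Jump K α j l) (hj : 4 ≤ j) (hbig : (j + 1) * (l - (j - 1)) ≤ (Mov K 1 : Finset α).card) :
    ∀ Z : Finset α, Z.card = j → ∀ a, a ∉ cl K Z → ∀ b, b ∉ cl K Z → b ∈ orb (LZ K Z) a := by
  have hn := J.hyp.first_step.1
  have hf := J.hyp.card_fix_eq
  set m := (Mov K 1 : Finset α).card with hm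
  have hjl := J.lt
  have hp : 2 * j + 2 ≤ m := le_trans (le_trans (by omega) (Nat.mul_le_mul_left (j + 1)
    (show 2 ≤ l - (j - 1) by omega))) hbig
  intro Z hZ
  by_contra hc
  push_neg at hc
  obtain ⟨a, ha, b, hb, hab⟩ := hc
  obtain ⟨Z2, hZ2F, hZ2c⟩ := exists_subset_card_eq (s := (Fix K 1 : Finset α)) (n := j - 2) (by omega)
  have e1 : ((Fix K 1 : Finset α) \ Z2).card + Z2.card = m := by
    rw [card_sdiff_add_card_eq_card hZ2F, hf]
  have e2 : ((univ : Finset α) \ Z2).card + Z2.card = 2 * m := by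
    rw [card_sdiff_add_card_eq_card (subset_univ _), card_univ, hn]
  have hg := J.hyp.gram hZ2F (omin := j + 1)
    (fun x hx => J.hyp.orb_card_gt (by omega) J.av hx) (by omega)
    (two_trans (J.ton _ (by omega)) (J.ton _ (by omega)) hZ2c) (by
    intro p q hp hq hpq
    have hc1 : (insert p (insert q Z2)).card = j := by
      rw [card_insert_of_notMem (by simp [hp, hpq]), card_insert_of_notMem hq, hZ2c]; omega
    obtain ⟨g, hg⟩ := map_sets J.ton Z _ hZ hc1
    rw [← hg]
    refine ⟨g • a, ?_, g • b, ?_, ?_⟩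
    · rw [Out_sm, smul_mem_sm, mem_Out]; exact ha
    · rw [Out_sm, smul_mem_sm, mem_Out]; exact hb
    · rw [orb_sm, smul_mem_sm]; exact hab)
  obtain ⟨p, hp'⟩ : ∃ p, m = p + j := ⟨m - j, by omega⟩
  have eφ : ((Fix K 1 : Finset α) \ Z2).card = p + 2 := by omega
  have eq' : ((univ : Finset α) \ Z2).card = 2 * p + j + 2 := by omega
  rw [eφ, eq', ← hm, hp'] at hg
  push_cast at hg
  have hj' : (4 : ℚ) ≤ j := by exact_mod_cast hj
  have hpj : (j : ℚ) + 2 ≤ p := by exact_mod_cast (show j + 2 ≤ p by omega)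
  have hp0 : (0 : ℚ) ≤ p := by linarith
  nlinarith [mul_nonneg (mul_nonneg (sub_nonneg.2 hj') hp0) (sub_nonneg.2 hpj),
    mul_nonneg hp0 (sub_nonneg.2 hpj), mul_nonneg (sub_nonneg.2 hj') hp0]

set_option maxHeartbeats 800000 in
/-- The counting at levels at least four. -/
theorem flats (J : Jump K α j l) (hj : 4 ≤ j) (hlm : l < (Mov K 1 : Finset α).card)
    (hbig : (j + 1) * (l - (j - 1)) ≤ (Mov K 1 : Finset α).card) : False := by
  have horb := J.orb_of hj hbig
  have hn := J.hyp.first_step.1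
  have hf := J.hyp.card_fix_eq
  set m := (Mov K 1 : Finset α).card with hm
  have hjl := J.lt
  let C : Finset α → α → Finset α := fun Z x => cl K (insert x Z)
  have hCav : ∀ Z : Finset α, Z.card = j → ∀ x, x ∉ cl K Z → Av K (insert x (cl K Z)) := by
    intro Z hZ x hx
    obtain ⟨g, hg⟩ := J.av Z hZ
    have hsub : cl K Z ⊆ Fix K g := cl_subset_Fix hg
    obtain ⟨y, hy, hyn⟩ := exists_mem_notMem_of_card_lt_card
      (show (cl K Z).card < (Fix K g : Finset α).card by rw [J.size Z hZ, J.fix_card]; exact hlm)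
    obtain ⟨k, hk, he⟩ := mem_orb.1 (horb Z hZ y hyn x hx)
    refine ⟨k * g, insert_subset ?_ fun z hz => ?_⟩
    · rw [← he, smul_mem_Fix]; exact hy
    · rw [← LZ_fix hz hk, smul_mem_Fix]; exact hsub hz
  have hCsize : ∀ Z Z' : Finset α, Z.card = j → Z'.card = j → ∀ x, x ∉ cl K Z → ∀ x', x' ∉ cl K Z' →
      (C Z x).card = (C Z' x').card := by
    intro Z Z' hZ hZ' x hx x' hx'
    obtain ⟨g, hg⟩ := map_sets J.ton Z Z' hZ hZ'
    have hgx : g • x ∉ cl K Z' := by rw [← hg, cl_sm, smul_mem_sm]; exact hx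
    obtain ⟨k, hk, he⟩ := mem_orb.1 (horb Z' hZ' (g • x) hgx x' hx')
    have he2 : sm (k * g) (insert x Z) = insert x' Z' := by
      rw [sm, image_insert, mul_smul, he, ← sm, ← sm_mul, hg,
        sm_eq_self (fun z hz => LZ_fix (subset_cl K Z' hz) hk)]
    show (cl K (insert x Z)).card = (cl K (insert x' Z')).card
    rw [← he2, cl_sm, card_sm]
  obtain ⟨Z0, hZ0F, hZ0c⟩ := exists_subset_card_eq (s := (Fix K 1 : Finset α)) (n := j - 1) (by omega)
  obtain ⟨p, hp⟩ := card_pos.1 J.hyp.mov_pos
  have hpF : p ∉ (Fix K 1 : Finset α) := mem_Mov.1 hp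
  have hpZ0 : p ∉ Z0 := fun h => hpF (hZ0F h)
  set Zp := insert p Z0 with hZp
  have hZpc : Zp.card = j := by rw [hZp, card_insert_of_notMem hpZ0, hZ0c]; omega
  set B := cl K Zp with hB
  have hins : ∀ h ∈ (Fix K 1 : Finset α) \ Z0, (insert h Z0).card = j := fun h hh => by
    rw [card_insert_of_notMem (mem_sdiff.1 hh).2, hZ0c]; omega
  have hhB : ∀ h ∈ (Fix K 1 : Finset α) \ Z0, h ∉ B := by
    intro h hh hhB
    have he := J.uniq (hins h hh) hZpc
      (insert_subset hhB ((subset_insert _ _).trans (subset_cl K _)))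
    apply hpF
    refine cl_subset_Fix (Z := insert h Z0) (insert_subset (mem_sdiff.1 hh).1 hZ0F) ?_
    rw [he]; exact subset_cl K _ (mem_insert_self _ _)
  have hCcl : ∀ (Z : Finset α) x, cl K Z ⊆ C Z x := fun Z x => cl_subset_cl ((subset_insert _ _).trans (subset_cl K _))
  have hCbig : ∀ h ∈ (Fix K 1 : Finset α) \ Z0, (j + 1) * (l - j + 1) - l ≤ (C Zp h \ B).card := by
    intro h hh
    rw [card_sdiff_of_subset (hCcl Zp h), J.size Zp hZpc]
    refine Nat.sub_le_sub_right ?_ l
    refine J.packing (S := insert h Zp) (fun W _ hW => cl_subset_cl hW) ?_ (subset_cl K _) ?_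
    · rw [card_insert_of_notMem (fun e => hhB h hh (subset_cl K _ e)), hZpc]
    · intro W hW hsub
      apply hhB h hh
      rw [hB, J.uniq hZpc hW ((subset_insert _ _).trans hsub)]
      exact hsub (mem_insert_self _ _)
  have hcount : ((Fix K 1 : Finset α) \ Z0).card * ((j + 1) * (l - j + 1) - l) ≤
      (univ \ B).card * (l - (j - 1)) := by
    refine card_mul_le_card_mul (fun h y => y ∈ C Zp h) (fun h hh => ?_) (fun y hy => ?_)
    · refine (hCbig h hh).trans (card_le_card fun y hy => ?_)
      simp only [mem_sdiff, mem_bipartiteAbove, mem_univ, true_and] at hy ⊢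
      exact ⟨hy.2, hy.1⟩
    · simp only [mem_sdiff, mem_univ, true_and] at hy
      by_cases hne : ∃ h ∈ (Fix K 1 : Finset α) \ Z0, y ∈ C Zp h
      swap
      · push_neg at hne
        rw [bipartiteBelow, filter_eq_empty_iff.2 (fun h hh => hne h hh)]
        simp
      obtain ⟨h, hh, hyh⟩ := hne
      set Z1 := insert h Z0 with hZ1
      have hZ1c : Z1.card = j := hins h hh
      refine le_trans (card_le_card (t := cl K Z1 \ Z0) fun h' hh' => ?_) (by
        rw [card_sdiff_of_subset ((subset_insert _ _).trans (subset_cl K _)), J.size Z1 hZ1c, hZ0c])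
      rw [mem_bipartiteBelow] at hh'
      refine mem_sdiff.2 ⟨?_, (mem_sdiff.1 hh'.1).2⟩
      by_contra hn1
      have hsame : ∀ k ∈ (Fix K 1 : Finset α) \ Z0, y ∈ C Zp k → C Zp k = C Zp y := by
        intro k hk hyk
        refine (eq_of_subset_of_card_le (cl_subset_cl (insert_subset hyk
          ((subset_insert _ _).trans (subset_cl K _)))) ?_).symm
        exact le_of_eq (hCsize Zp Zp hZpc hZpc k (hhB k hk) y hy)
      have hC : C Zp h' = C Zp h := by rw [hsame h' hh'.1 hh'.2, hsame h hh hyh]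
      have hsub : C Z1 h' ⊆ C Zp h := by
        refine cl_subset_cl (insert_subset ?_ (insert_subset ?_ ?_))
        · show h' ∈ C Zp h
          rw [← hC]; exact subset_cl K _ (mem_insert_self _ _)
        · exact subset_cl K _ (mem_insert_self _ _)
        · exact ((subset_insert _ _).trans (subset_insert _ _)).trans (subset_cl K _)
      have heq := eq_of_subset_of_card_le hsub
        (le_of_eq (hCsize Zp Z1 hZpc hZ1c h (hhB h hh) h' hn1))
      apply hpF
      refine cl_subset_Fix (Z := insert h' Z1)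
        (insert_subset (mem_sdiff.1 hh'.1).1 (insert_subset (mem_sdiff.1 hh).1 hZ0F)) ?_
      show p ∈ C Z1 h'
      rw [heq]
      exact subset_cl K _ (mem_insert_of_mem (mem_insert_self _ _))
  have e1 : ((Fix K 1 : Finset α) \ Z0).card + (j - 1) = m := by
    rw [← hZ0c, card_sdiff_add_card_eq_card hZ0F, hf]
  have e2 : (univ \ B).card + l = 2 * m := by
    rw [← J.size Zp hZpc, ← hB, card_sdiff_add_card_eq_card (subset_univ _), card_univ, hn]
  obtain ⟨b, hb⟩ : ∃ b, l = j - 1 + b := ⟨l - (j - 1), by omega⟩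
  have hb' : l - j + 1 = b := by omega
  have hb'' : l - (j - 1) = b := by omega
  rw [hb'] at hcount
  rw [hb''] at hcount hbig
  have hb2 : 2 ≤ b := by omega
  have hlb : l ≤ (j + 1) * b := by
    calc l ≤ (j - 1) * b + b := by
          have h9 : (j - 1) * 1 ≤ (j - 1) * b := Nat.mul_le_mul_left _ (by omega)
          omega
      _ ≤ (j + 1) * b := by rw [← Nat.succ_mul]; exact Nat.mul_le_mul_right _ (by omega)
  have hcz : (((Fix K 1 : Finset α) \ Z0).card : ℤ) * (((j : ℤ) + 1) * b - l) ≤
      ((univ \ B).card : ℤ) * b := by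
    have h9 : (((((Fix K 1 : Finset α) \ Z0).card * ((j + 1) * b - l) : ℕ)) : ℤ) ≤
        (((univ \ B).card * b : ℕ) : ℤ) := Int.ofNat_le.2 hcount
    push_cast [Nat.cast_sub hlb] at h9
    exact h9
  have e1z : (((Fix K 1 : Finset α) \ Z0).card : ℤ) = (m : ℤ) - ((j : ℤ) - 1) := by omega
  have e2z : ((univ \ B).card : ℤ) = 2 * (m : ℤ) - l := by omega
  have hlz : (l : ℤ) = (j : ℤ) - 1 + b := by omega
  rw [e1z, e2z, hlz] at hcz
  have hu : (0 : ℤ) ≤ (m : ℤ) - ((j : ℤ) + 1) * b := by
    have h9 : (((j + 1) * b : ℕ) : ℤ) ≤ (m : ℤ) := Int.ofNat_le.2 hbig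
    push_cast at h9
    linarith
  have hj' : (0 : ℤ) ≤ (j : ℤ) - 4 := by omega
  have hb3 : (0 : ℤ) ≤ (b : ℤ) - 2 := by omega
  have hA : (0 : ℤ) ≤ ((j : ℤ) - 2) * b - j + 1 := by nlinarith [mul_nonneg hj' hb3]
  have hB2 : (0 : ℤ) ≤ ((j : ℤ) * j - j - 1) * (b + 2) - 2 * j * (j - 1) := by
    nlinarith [mul_nonneg hj' hb3, sq_nonneg ((j : ℤ) - 4), mul_nonneg (mul_nonneg hj' hj') hb3]
  nlinarith [mul_nonneg hu hA, mul_nonneg hb3 hB2, mul_nonneg hj' hj']

end Jump

namespace Hyp

/-- There is no counterexample. -/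
theorem false (h : Hyp K α) : False := by
  obtain ⟨j, hj, ht, hav, Z, hZ, hne⟩ := h.stuck
  have hn := h.first_step.1
  have hf := h.card_fix_eq
  have hjn : j ≤ Fintype.card α := hZ ▸ card_le_univ Z
  set l := (cl K Z).card with hl
  have hjl : j < l := hZ ▸ card_lt_card ((subset_cl K Z).ssubset_of_ne (Ne.symm hne))
  have hsize : ∀ W : Finset α, W.card = j → (cl K W).card = l := by
    intro W hW
    obtain ⟨g, rfl⟩ := map_sets ht Z W hZ hW
    rw [cl_sm, card_sm]
  have J : Jump K α j l := ⟨h, hj, ht, hav, hsize, hjl⟩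
  have hjm := J.j_le hjn
  set m := (Mov K 1 : Finset α).card with hm
  obtain ⟨g, hg⟩ := hav Z hZ
  have hlm : l ≤ m := by
    have := card_le_card (cl_subset_Fix hg)
    rwa [J.fix_card] at this
  obtain ⟨Z0, hZ0F, hZ0c⟩ := exists_subset_card_eq (s := (Fix K 1 : Finset α)) (n := j - 1) (by omega)
  have d1 : l - (j - 1) ∣ 2 * m - (j - 1) := by
    have := J.class_dvd hZ0c (subset_univ Z0) (fun _ _ _ => subset_univ _)
    rwa [card_univ, ← hn] at this
  have d2 : l - (j - 1) ∣ m - (j - 1) := by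
    have := J.class_dvd hZ0c hZ0F (fun _ _ hW => cl_subset_Fix hW)
    rwa [hf] at this
  have hdm : l - (j - 1) ∣ m := by
    have := Nat.dvd_sub d1 d2
    rwa [show 2 * m - (j - 1) - (m - (j - 1)) = m by omega] at this
  have hdj : l - (j - 1) ∣ j - 1 := by
    have := Nat.dvd_sub hdm d2
    rwa [show m - (m - (j - 1)) = j - 1 by omega] at this
  obtain ⟨W, -, hWF, hW⟩ := J.exists_sub (Z := ∅) (g := 1) (by simp) (empty_subset _) hjm
  have hWcl : cl K W ⊆ Fix K 1 := cl_subset_Fix hWF
  have hS : ∀ x, x ∉ cl K W → (insert x W).card = j + 1 ∧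
      ∀ V : Finset α, V.card = j → ¬ insert x W ⊆ cl K V := by
    intro x hx
    refine ⟨by rw [card_insert_of_notMem (fun e => hx (subset_cl K _ e)), hW], fun V hV hsub => hx ?_⟩
    rw [J.uniq hW hV ((subset_insert _ _).trans hsub)]
    exact hsub (mem_insert_self _ _)
  rcases eq_or_lt_of_le hlm with hlm' | hlm'
  · obtain ⟨x, hx⟩ := card_pos.1 h.mov_pos
    obtain ⟨hS1, hS2⟩ := hS x fun e => mem_Mov.1 hx (hWcl e)
    have hp := J.packing (A := univ) (fun _ _ _ => subset_univ _) hS1 (subset_univ _) hS2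
    rw [card_univ, ← hn, ← hlm'] at hp
    have hb : l = j + 1 := by
      by_contra hne'
      obtain ⟨b, hb⟩ : ∃ b, l = j + b := ⟨l - j, by omega⟩
      rw [hb, Nat.add_sub_cancel_left] at hp
      obtain ⟨j', rfl⟩ : ∃ j', j = j' + 2 := ⟨j - 2, by omega⟩
      obtain ⟨b', rfl⟩ : ∃ b', b = b' + 2 := ⟨b - 2, by omega⟩
      nlinarith [Nat.zero_le (j' * b')]
    have heven : Even l := by
      rw [hb, show j + 1 - (j - 1) = 2 by omega] at hdj
      rw [hb, Nat.even_iff]
      omega
    exact J.fix_not_block hjm hlm' hb heven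
  · obtain ⟨x, hx, hxn⟩ := exists_mem_notMem_of_card_lt_card
      (show (cl K W).card < (Fix K 1 : Finset α).card by rw [hsize W hW, hf]; exact hlm')
    obtain ⟨hS1, hS2⟩ := hS x hxn
    have hp := J.packing (A := Fix K 1) (fun _ _ hV => cl_subset_Fix hV) hS1
      (insert_subset hx hWF) hS2
    rw [hf, show l - j + 1 = l - (j - 1) by omega] at hp
    have hb2 : 2 ≤ l - (j - 1) := by omega
    have hj3 : 3 ≤ j := by
      have := Nat.le_of_dvd (by omega) hdj
      omega
    rcases eq_or_lt_of_le hj3 with hj3' | hj3'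
    · subst hj3'
      have := Nat.le_of_dvd (by omega) hdj
      exact J.quad rfl (by omega)
    · exact J.flats hj3' hlm' hp

end Hyp

/-- A pronormal subgroup of a transitive group that moves a point fixes fewer than half of them. -/
theorem small : ∀ (n : ℕ) (β : Type) [Fintype β] (H : Type) [Group H] [Finite H] [MulAction H β]
    (K' : Subgroup H), Fintype.card β = n → MulAction.IsPretransitive H β → Cfsg.IsPronormal K' →
      Small H β K' := by
  intro n
  induction n using Nat.strong_induction_on with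
  | _ n ih =>
    intro β _ H _ _ _ K' hn htr hpro hmv
    by_contra hc
    have hF : Nat.card {x : β // ∀ k ∈ K', k • x = x} = (Fix K' 1 : Finset β).card := by
      rw [Nat.card_eq_fintype_card]
      exact Fintype.card_of_subtype _ fun x => by simp [mem_Fix]
    rw [hF, Nat.card_eq_fintype_card] at hc
    exact Hyp.false (α := β) (K := K')
      ⟨inferInstance, htr, hpro, hmv, by omega,
        fun γ _ L _ _ _ K'' hlt h1 h2 => ih _ (hn ▸ hlt) γ L K'' rfl h1 h2⟩

end

end Cfsg.Agent.ProFix
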