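import Cfsg.Agent.Lib.Perm.ProFix.Gram

/-!
Levels: closed sets, transitivity, and the first jump of the closure.
-/

set_option autoImplicit false

namespace Cfsg.Agent.ProFix

open Finset
open scoped Classical
open Cfsg.Agent.Perm.Pronormal (cj mem_cj cj_cj cj_one)

noncomputable section

variable {G : Type} [Group G] {α : Type} [Fintype α] [MulAction G α] {K : Subgroup G}

/-- Pointwise stabilisers of sets of size `i` are transitive on the remaining points. -/
def TOn (G : Type) [Group G] (α : Type) [MulAction G α] (i : ℕ) : Prop :=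
  ∀ Z : Finset α, Z.card = i → ∀ a b : α, a ∉ Z → b ∉ Z → ∃ g : G, (∀ z ∈ Z, g • z = z) ∧ g • a = b

/-- Level `i`. -/
def Lev (K : Subgroup G) (α : Type) [Fintype α] [MulAction G α] (i : ℕ) : Prop :=
  ∀ Z : Finset α, Z.card = i →
    Av K Z ∧ cl K Z = Z ∧ ∀ a, a ∉ Z → ∀ b, b ∉ Z → b ∈ orb (LZ K Z) a

theorem LZ_fix {Z : Finset α} {x : α} (hx : x ∈ cl K Z) {l : G} (hl : l ∈ LZ K Z) : l • x = x :=
  gen_fix (fun g hg => mem_cl.1 hx g hg) hl

theorem Lev.tOn {i : ℕ} (h : Lev K α i) : TOn G α i := by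
  intro Z hZ a b ha hb
  obtain ⟨g, hg, he⟩ := mem_orb.1 ((h Z hZ).2.2 a ha b hb)
  exact ⟨g, fun z hz => LZ_fix (subset_cl K Z hz) hg, he⟩

theorem sm_eq_self {g : G} {Z : Finset α} (hg : ∀ z ∈ Z, g • z = z) : sm g Z = Z := by
  refine eq_of_subset_of_card_le (fun x hx => ?_) (by rw [card_sm])
  obtain ⟨z, hz, rfl⟩ := mem_image.1 hx
  rwa [hg z hz]

theorem map_sets : ∀ {i : ℕ}, (∀ k < i, TOn G α k) → ∀ Z Z' : Finset α, Z.card = i → Z'.card = i →
    ∃ g : G, sm g Z = Z'
  | 0, _, Z, Z', h1, h2 => ⟨1, by rw [card_eq_zero.1 h1, card_eq_zero.1 h2]; rfl⟩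
  | i + 1, ht, Z, Z', h1, h2 => by
    obtain ⟨a, W, haW, rfl, hW⟩ := card_eq_succ.1 h1
    obtain ⟨a', W', haW', rfl, hW'⟩ := card_eq_succ.1 h2
    obtain ⟨g, hg⟩ := map_sets (fun k hk => ht k (by omega)) W W' hW hW'
    have hga : g • a ∉ W' := by rw [← hg, smul_mem_sm]; exact haW
    obtain ⟨k, hk, he⟩ := ht i (by omega) W' hW' (g • a) a' hga haW'
    refine ⟨k * g, ?_⟩
    rw [← sm_mul, sm, sm, image_insert, image_insert, he]
    rw [show W.image (g • ·) = W' from hg, show W'.image (k • ·) = W' from sm_eq_self hk]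

theorem two_trans {k : ℕ} (h1 : TOn G α k) (h2 : TOn G α (k + 1)) {Z : Finset α} (hZ : Z.card = k)
    (p q p' q' : α) (hp : p ∉ Z) (hq : q ∉ Z) (hpq : p ≠ q) (hp' : p' ∉ Z) (hq' : q' ∉ Z)
    (hpq' : p' ≠ q') : ∃ g : G, (∀ z ∈ Z, g • z = z) ∧ g • p = p' ∧ g • q = q' := by
  obtain ⟨g, hg, e⟩ := h1 Z hZ p p' hp hp'
  have hgq : g • q ∉ insert p' Z := by
    rw [mem_insert]
    rintro (h | h)
    · exact hpq (MulAction.injective g (e.trans h.symm))
    · have h' : g • q ∈ sm g Z := by rw [sm_eq_self hg]; exact h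
      exact hq (smul_mem_sm.1 h')
  obtain ⟨k', hk, e'⟩ := h2 (insert p' Z) (by rw [card_insert_of_notMem hp', hZ]) (g • q) q' hgq
    (by simp [hq', Ne.symm hpq'])
  refine ⟨k' * g, fun z hz => ?_, ?_, ?_⟩
  · rw [mul_smul, hg z hz, hk z (mem_insert_of_mem hz)]
  · rw [mul_smul, e, hk p' (mem_insert_self _ _)]
  · rw [mul_smul, e']

/-- The data at the first jump of the closure. -/
def Stuck (K : Subgroup G) (α : Type) [Fintype α] [MulAction G α] : Prop :=
  ∃ j, 2 ≤ j ∧ (∀ k < j, TOn G α k) ∧ (∀ Z : Finset α, Z.card = j → Av K Z) ∧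
    ∃ Z : Finset α, Z.card = j ∧ cl K Z ≠ Z

namespace Hyp

theorem card_fix_eq (h : Hyp K α) :
    (Fix K 1 : Finset α).card = (Mov K 1 : Finset α).card := by
  have := card_Mov (α := α) K 1
  have := h.first_step.1
  omega

theorem tOn_zero (h : Hyp K α) : TOn G α 0 := fun Z hZ a b _ _ => by
  obtain ⟨g, hg⟩ := h.exists_smul a b
  exact ⟨g, by simp [card_eq_zero.1 hZ], hg⟩

/-- Every conjugate moves a point of every nontrivial orbit of `K`. -/
theorem orb_not_subset (h : Hyp K α) {a : α} (ha : a ∈ (Mov K 1 : Finset α)) (g : G) :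
    ¬ orb K a ⊆ Fix K g := by
  intro hsub
  apply mem_Mov.1 ha
  obtain ⟨w, hw, he⟩ := h.pro g
  let S : Subgroup G :=
    { carrier := {y | ∀ x, y • x ∈ orb K a ↔ x ∈ orb K a}
      one_mem' := fun x => by rw [one_smul]
      mul_mem' := fun {u v} hu hv x => by rw [mul_smul, hu, hv]
      inv_mem' := fun {u} hu x => by rw [← hu (u⁻¹ • x), smul_inv_smul] }
  have hKS : K ≤ S := fun k hk x => by
    have hkx : k • x ∈ orb K x := mem_orb.2 ⟨k, hk, rfl⟩
    have hxx : ∀ y, y ∈ orb K a ↔ orb K y = orb K a :=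
      fun y => ⟨orb_eq, fun e => e ▸ self_mem_orb K y⟩
    rw [hxx, hxx, orb_eq hkx]
  have hfixed : ∀ y ∈ cj g K, ∀ x ∈ orb K a, y • x = x := fun y hy x hx => Fix_fixed (hsub hx) hy
  have hgS : cj g K ≤ S := fun y hy x => by
    refine ⟨fun hx => ?_, fun hx => by rwa [hfixed y hy x hx]⟩
    have := hfixed y⁻¹ ((cj g K).inv_mem hy) _ hx
    rw [inv_smul_smul] at this
    rwa [← this] at hx
  have hwS : w ∈ S := sup_le hKS hgS hw
  rw [mem_Fix]
  intro k hk
  rw [inv_one, one_smul]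
  have hy : w * k * w⁻¹ ∈ cj g K := by
    rw [show cj g K = cj w K from he, mem_cj]; simpa [mul_assoc] using hk
  have h2 := hfixed _ hy (w • a) ((hwS a).2 (self_mem_orb K a))
  rw [mul_smul, mul_smul, inv_smul_smul] at h2
  exact MulAction.injective w h2

theorem orb_card_gt (h : Hyp K α) {i : ℕ} (hi : i ≤ Fintype.card α)
    (hav : ∀ Z : Finset α, Z.card = i → Av K Z) {a : α} (ha : a ∈ (Mov K 1 : Finset α)) :
    i < (orb K a).card := by
  by_contra hc
  push_neg at hc
  obtain ⟨T, hT, hTc⟩ := exists_superset_card_eq hc hi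
  obtain ⟨g, hg⟩ := hav T hTc
  exact h.orb_not_subset ha g (hT.trans hg)

/-- All sets one larger than closed avoidable sets are avoidable. -/
theorem av_succ (h : Hyp K α) {i : ℕ} (hi : 1 ≤ i) (hin : i ≤ Fintype.card α)
    (hav : ∀ Z : Finset α, Z.card = i → Av K Z)
    (hcl : ∀ Z : Finset α, Z.card = i → cl K Z = Z) :
    ∀ Z : Finset α, Z.card = i + 1 → Av K Z := by
  intro Z1 hZ1
  obtain ⟨a0, Z0, ha0, rfl, hZ0⟩ := card_eq_succ.1 hZ1
  obtain ⟨g, hg⟩ := hav Z0 hZ0
  suffices hs : Av K (insert (g⁻¹ • a0) (sm g⁻¹ Z0)) by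
    have h2 := Av_sm (h := g) hs
    rw [sm, image_insert, ← sm, sm_sm_inv, smul_inv_smul] at h2
    exact h2
  set a := g⁻¹ • a0
  set Z := sm g⁻¹ Z0 with hZdef
  have hZc : Z.card = i := by rw [hZdef, card_sm, hZ0]
  have hZF : Z ⊆ Fix K 1 := by
    rw [hZdef, ← inv_mul_cancel g, ← sm_Fix]; exact sm_subset hg
  have haZ : a ∉ Z := by rw [hZdef]; simpa [a, smul_mem_sm] using ha0
  by_cases haF : a ∈ (Fix K 1 : Finset α)
  · exact ⟨1, insert_subset haF hZF⟩
  set L := LZ K Z with hL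
  set U := Out K Z with hU
  have haU : a ∈ U := by rw [hU, mem_Out, hcl Z hZc]; exact haZ
  have hbd : ∀ x ∈ U, (orb L x).card + 1 ≤ 2 * (orb L x ∩ Mov K 1).card := by
    intro x hx
    have hx' := hx
    rw [hU, mem_Out, mem_cl] at hx'
    push_neg at hx'
    obtain ⟨k, hk, hkn⟩ := hx'
    refine h.orb_bound (A := {g | Z ⊆ Fix K g}) hZF ?_ ⟨k, hk, hkn⟩
    obtain ⟨z, hz⟩ := card_pos.1 (show 0 < Z.card by omega)
    rw [← card_univ]
    exact card_lt_card (ssubset_univ_iff.2 fun hu =>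
      mem_Out.1 (orb_subset_Out hx (show z ∈ orb (LZ K Z) x from hu ▸ mem_univ z)) (subset_cl K Z hz))
  suffices hb : ∃ b ∈ orb L a, b ∈ Fix K 1 by
    obtain ⟨b, hb, hbF⟩ := hb
    obtain ⟨l, hl, rfl⟩ := mem_orb.1 hb
    refine ⟨l⁻¹ * 1, insert_subset ?_ fun z hz => ?_⟩
    · rw [show a = l⁻¹ • (l • a) by simp, smul_mem_Fix]; exact hbF
    · rw [← LZ_fix (subset_cl K Z hz) (L.inv_mem hl), smul_mem_Fix]; exact hZF hz
  by_contra hc
  push_neg at hc
  have hoM : orb L a ⊆ Mov K 1 := fun b hb => mem_Mov.2 (hc b hb)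
  have hKL : K ≤ L := le_gen hZF
  have hge : (orb K a).card ≤ (orb L a).card := card_le_card fun b hb => by
    obtain ⟨k, hk, rfl⟩ := mem_orb.1 hb
    exact mem_orb.2 ⟨k, hKL hk, rfl⟩
  have hgt := h.orb_card_gt hin hav (mem_Mov.2 haF)
  have hclosed : ∀ x ∈ U \ orb L a, orb L x ⊆ U \ orb L a := by
    intro x hx y hy
    rw [mem_sdiff] at hx ⊢
    exact ⟨orb_subset_Out hx.1 hy, fun hya => hx.2 (by
      rw [← orb_eq hya, orb_eq hy]; exact self_mem_orb L x)⟩
  have hs := h.sum_bound hclosed (fun x hx => hbd x (mem_sdiff.1 hx).1)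
  have e1 : (U \ orb L a).card + (orb L a).card = U.card :=
    card_sdiff_add_card_eq_card (orb_subset_Out haU)
  have e2 : ((U \ orb L a) ∩ Mov K 1).card + (orb L a).card ≤ (Mov K 1 : Finset α).card := by
    rw [← card_union_of_disjoint (disjoint_of_subset_left inter_subset_left sdiff_disjoint)]
    exact card_le_card (union_subset inter_subset_right hoM)
  have e3 : U.card + i = Fintype.card α := by
    rw [hU, Out, hcl Z hZc, ← hZc, card_sdiff_add_card_eq_card (subset_univ _), card_univ]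
  have := h.first_step.1
  omega

/-- The next level. -/
theorem lev_of_closed (h : Hyp K α) {i : ℕ} (hi : 2 ≤ i) (hin : i ≤ Fintype.card α)
    (ht : ∀ k < i, TOn G α k) (hav : ∀ Z : Finset α, Z.card = i → Av K Z)
    (hcl : ∀ Z : Finset α, Z.card = i → cl K Z = Z) : Lev K α i := by
  have hm := h.first_step.1
  have hf := h.card_fix_eq
  set m := (Mov K 1 : Finset α).card with hmdef
  have hav1 := h.av_succ (by omega) hin hav hcl
  have him : i + 1 ≤ m := by
    have hf2 : ∀ k, (∀ Z : Finset α, Z.card = k → Av K Z) → k ≤ Fintype.card α → k ≤ m := by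
      intro k hk hkn
      obtain ⟨T, -, hT⟩ := exists_subset_card_eq (s := (univ : Finset α)) (n := k) (by rwa [card_univ])
      obtain ⟨g, hg⟩ := hk T hT
      have := card_le_card hg
      rw [card_Fix, hf, hT] at this
      exact this
    have h1 := hf2 i hav hin
    have h2 := h.mov_pos
    exact hf2 (i + 1) hav1 (by omega)
  intro Z hZ
  refine ⟨hav Z hZ, hcl Z hZ, ?_⟩
  by_contra hc
  push_neg at hc
  obtain ⟨a, ha, b, hb, hab⟩ := hc
  obtain ⟨Z2, hZ2F, hZ2c⟩ := exists_subset_card_eq (s := (Fix K 1 : Finset α)) (n := i - 2) (by omega)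
  have e1 : ((Fix K 1 : Finset α) \ Z2).card + Z2.card = m := by
    rw [card_sdiff_add_card_eq_card hZ2F, hf]
  have e2 : ((univ : Finset α) \ Z2).card + Z2.card = 2 * m := by
    rw [card_sdiff_add_card_eq_card (subset_univ _), card_univ, hm]
  have hg := h.gram hZ2F (omin := i + 2)
    (fun x hx => h.orb_card_gt (by omega) hav1 hx) (by omega)
    (two_trans (ht _ (by omega)) (ht _ (by omega)) hZ2c) (by
    intro p q hp hq hpq
    have hc1 : (insert p (insert q Z2)).card = i := by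
      rw [card_insert_of_notMem (by simp [hp, hpq]), card_insert_of_notMem hq, hZ2c]; omega
    obtain ⟨g, hg⟩ := map_sets ht Z _ hZ hc1
    rw [← hg]
    refine ⟨g • a, ?_, g • b, ?_, ?_⟩
    · rw [Out_sm, smul_mem_sm, mem_Out, hcl Z hZ]; exact ha
    · rw [Out_sm, smul_mem_sm, mem_Out, hcl Z hZ]; exact hb
    · rw [orb_sm, smul_mem_sm]; exact hab)
  obtain ⟨p, hp⟩ : ∃ p, m = p + i := ⟨m - i, by omega⟩
  obtain ⟨r, hr⟩ : ∃ r, i = r + 2 := ⟨i - 2, by omega⟩
  have eφ : ((Fix K 1 : Finset α) \ Z2).card = p + 2 := by omega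
  have eq' : ((univ : Finset α) \ Z2).card = 2 * p + i + 2 := by omega
  rw [eφ, eq', ← hmdef, hp, hr] at hg
  push_cast at hg
  have hp0 : (0 : ℚ) ≤ p := Nat.cast_nonneg p
  have hr0 : (0 : ℚ) ≤ r := Nat.cast_nonneg r
  rcases le_or_gt r 4 with hr4 | hr4
  · have hr4' : (r : ℚ) ≤ 4 := by exact_mod_cast hr4
    nlinarith [mul_nonneg hr0 (mul_nonneg hp0 hp0), mul_nonneg (sub_nonneg.2 hr4') hp0]
  · have hr4' : (5 : ℚ) ≤ r := by exact_mod_cast hr4
    nlinarith [mul_nonneg hr0 (sq_nonneg ((p : ℚ) - 1 / 2)), sq_nonneg (p : ℚ)]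

/-- The closure jumps. -/
theorem stuck (h : Hyp K α) : Stuck K α := by
  obtain ⟨hm, h1⟩ := h.first_step
  have hM := h.mov_pos
  have hf := h.card_fix_eq
  have hlev1 : Lev K α 1 := by
    intro Z hZ
    obtain ⟨z, rfl⟩ := card_eq_one.1 hZ
    obtain ⟨g, hg⟩ := h.exists_fix z
    exact ⟨⟨g, singleton_subset_iff.2 hg⟩, (h1 z).1, fun a ha b hb =>
      (h1 z).2 a (by simpa using ha) b (by simpa using hb)⟩
  have key : ∀ i, Stuck K α ∨ ∀ k, 1 ≤ k → k ≤ i → k ≤ Fintype.card α → Lev K α k := by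
    intro i
    induction i with
    | zero => exact Or.inr fun k h1 h2 _ => by omega
    | succ i ih =>
      rcases ih with hs | ih
      · exact Or.inl hs
      rcases Nat.eq_zero_or_pos i with rfl | hi
      · exact Or.inr fun k h1 h2 _ => (show k = 1 by omega) ▸ hlev1
      by_cases hin : i + 1 ≤ Fintype.card α
      · have hl := ih i hi le_rfl (by omega)
        have ht : ∀ k < i + 1, TOn G α k := fun k hk => by
          rcases Nat.eq_zero_or_pos k with rfl | hk0
          · exact h.tOn_zero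
          · exact (ih k hk0 (by omega) (by omega)).tOn
        have hav := h.av_succ hi (by omega) (fun Z hZ => (hl Z hZ).1) (fun Z hZ => (hl Z hZ).2.1)
        by_cases hcl : ∀ Z : Finset α, Z.card = i + 1 → cl K Z = Z
        · refine Or.inr fun k h1 h2 hkn => ?_
          rcases Nat.lt_or_ge k (i + 1) with hk | hk
          · exact ih k h1 (by omega) hkn
          · exact (show k = i + 1 by omega) ▸ h.lev_of_closed (by omega) hin ht hav hcl
        · push_neg at hcl
          exact Or.inl ⟨i + 1, by omega, ht, hav, hcl⟩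
      · exact Or.inr fun k h1 h2 hkn => ih k h1 (by omega) hkn
  rcases key ((Mov K 1 : Finset α).card + 1) with hs | hl
  · exact hs
  obtain ⟨T, -, hT⟩ := exists_subset_card_eq (s := (univ : Finset α))
    (n := (Mov K 1 : Finset α).card + 1) (by rw [card_univ]; omega)
  obtain ⟨g, hg⟩ := (hl _ (by omega) le_rfl (by omega) T hT).1
  have := card_le_card hg
  rw [card_Fix, hf, hT] at this
  omega

end Hyp

end

end Cfsg.Agent.ProFix
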